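import Cfsg.Agent.H41.TorusSylow
import Cfsg.Agent.H81.SL2Card

/-! Subgroups of order four in `SL₂(q)`, and involutions of `PSL₂(q)`, `q` odd. -/

set_option autoImplicit false

namespace Cfsg.Agent.H14.SL2Four

open Cfsg.Agent.H41

variable {F : Type*} [Field F]

theorem eq_one_or_neg_one (h2 : (2 : F) ≠ 0) {g : Matrix.SpecialLinearGroup (Fin 2) F} (h : g * g = 1) :
    g = 1 ∨ g = -1 := by
  rcases H81.sl2_invol h2 g h with h' | h'
  · exact Or.inl h'
  · right
    apply Subtype.ext
    rw [h']
    simp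

theorem neg_one_ne_one (h2 : (2 : F) ≠ 0) : (-1 : Matrix.SpecialLinearGroup (Fin 2) F) ≠ 1 := by
  intro h
  have := congrArg (fun M : Matrix.SpecialLinearGroup (Fin 2) F => M 0 0) h
  simp at this
  apply h2
  linear_combination -this

/-- `g² = -1` iff the trace is `0`. -/
theorem tr_eq_zero_of_sq {g : Matrix.SpecialLinearGroup (Fin 2) F} (h : g * g = -1) :
    tr g = 0 ∨ (tr g ≠ 0 ∧ (g : Matrix (Fin 2) (Fin 2) F) = 0) := by
  have h1 := cayley_sl2 g
  have h3 : (g : Matrix (Fin 2) (Fin 2) F) * (g : Matrix (Fin 2) (Fin 2) F) = -1 := by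
    have := congrArg (fun M : Matrix.SpecialLinearGroup (Fin 2) F => (M : Matrix (Fin 2) (Fin 2) F)) h
    simpa using this
  rw [h3] at h1
  by_cases ht : tr g = 0
  · exact Or.inl ht
  · right
    refine ⟨ht, ?_⟩
    have : tr g • (g : Matrix (Fin 2) (Fin 2) F) = 0 := by
      have h5 : tr g • (g : Matrix (Fin 2) (Fin 2) F) = (tr g • (g : Matrix (Fin 2) (Fin 2) F) - 1) + 1 := by abel
      rw [h5, ← h1]; simp
    rcases smul_eq_zero.1 this with h6 | h6
    · exact absurd h6 ht
    · exact h6

theorem tr_eq_zero {g : Matrix.SpecialLinearGroup (Fin 2) F} (h : g * g = -1) : tr g = 0 := by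
  rcases tr_eq_zero_of_sq h with h | ⟨h1, h2⟩
  · exact h
  · exfalso
    apply h1
    simp [tr, h2]

theorem sq_eq_neg_one_iff {g : Matrix.SpecialLinearGroup (Fin 2) F} : g * g = -1 ↔ tr g = 0 :=
  ⟨tr_eq_zero, mul_self_eq_neg_one_of_tr_eq_zero⟩

theorem sq_ne_four (h2 : (2 : F) ≠ 0) {g : Matrix.SpecialLinearGroup (Fin 2) F} (h : tr g = 0) :
    tr g ^ 2 ≠ 4 := by
  rw [h]
  intro h0
  have : (2 : F) * 2 = 0 := by linear_combination -h0
  rcases mul_eq_zero.1 this with h | h <;> exact h2 h

theorem orderOf_of_tr (h2 : (2 : F) ≠ 0) {g : Matrix.SpecialLinearGroup (Fin 2) F} (h : tr g = 0) :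
    orderOf g = 4 := by
  have h1 := mul_self_eq_neg_one_of_tr_eq_zero h
  apply orderOf_eq_prime_pow (p := 2) (n := 1)
  · rw [pow_one, pow_two, h1]
    exact neg_one_ne_one h2
  · have : g ^ (2 ^ (1 + 1)) = (g * g) * (g * g) := by
      rw [show 2 ^ (1 + 1) = 2 + 2 from rfl, pow_add, pow_two]
    rw [this, h1]
    simp

/-- Subgroups of order 4 of `SL₂(q)`. -/
theorem exists_gen [Finite F] (h2 : (2 : F) ≠ 0) (A : Subgroup (Matrix.SpecialLinearGroup (Fin 2) F))
    (hA : Nat.card A = 4) : ∃ g, A = Subgroup.zpowers g ∧ tr g = 0 := by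
  classical
  have hfin : Finite A := Nat.finite_of_card_ne_zero (by omega)
  obtain ⟨g, hgA, hg⟩ : ∃ g ∈ A, g * g ≠ 1 := by
    by_contra hcon
    push Not at hcon
    have : (A : Set (Matrix.SpecialLinearGroup (Fin 2) F)) ⊆ {1, -1} := by
      intro g hg
      rcases eq_one_or_neg_one h2 (hcon g hg) with h | h
      · left; exact h
      · right; exact h
    have h1 := Set.ncard_le_ncard this
    have h3 : (A : Set (Matrix.SpecialLinearGroup (Fin 2) F)).ncard = 4 := hA
    have h4 := Set.ncard_insert_le (1 : Matrix.SpecialLinearGroup (Fin 2) F) {-1}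
    rw [Set.ncard_singleton] at h4
    omega
  have hpow : g ^ 4 = 1 := by
    have := pow_card_eq_one' (x := (⟨g, hgA⟩ : A))
    rw [hA] at this
    exact congrArg Subtype.val this
  have hg4 : g * g = -1 := by
    have : (g * g) * (g * g) = 1 := by
      rw [← hpow, show 4 = 2 + 2 from rfl, pow_add, pow_two]
    rcases eq_one_or_neg_one h2 this with h | h
    · exact absurd h hg
    · exact h
  have htr := tr_eq_zero hg4
  refine ⟨g, ?_, htr⟩
  symm
  apply Subgroup.eq_of_le_of_card_ge
  · rwa [Subgroup.zpowers_le]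
  · rw [Nat.card_zpowers, orderOf_of_tr h2 htr, hA]

theorem map_zpowers_conj {G : Type*} [Group G] (P g : G) :
    (Subgroup.zpowers g).map (MulAut.conj P).toMonoidHom = Subgroup.zpowers (P * g * P⁻¹) := by
  rw [MonoidHom.map_zpowers]
  rfl

theorem normalizer_zpowers [Finite F] (h2 : (2 : F) ≠ 0) {g : Matrix.SpecialLinearGroup (Fin 2) F} (h : tr g = 0) :
    Subgroup.normalizer ((Subgroup.zpowers g : Subgroup (Matrix.SpecialLinearGroup (Fin 2) F)) : Set (Matrix.SpecialLinearGroup (Fin 2) F))
      = Subgroup.normalizer ((Subgroup.centralizer ({g} : Set (Matrix.SpecialLinearGroup (Fin 2) F)) : Subgroup _) : Set (Matrix.SpecialLinearGroup (Fin 2) F)) := by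
  have hgg := mul_self_eq_neg_one_of_tr_eq_zero h
  have h4 := sq_ne_four h2 h
  apply le_antisymm
  · intro x hx
    have h1 : x * g * x⁻¹ ∈ Subgroup.zpowers g :=
      (Subgroup.mem_normalizer_iff.1 hx g).1 (Subgroup.mem_zpowers g)
    have h3 : (x * g * x⁻¹) * g = g * (x * g * x⁻¹) := by
      obtain ⟨k, hk⟩ := h1
      change g ^ k = x * g * x⁻¹ at hk
      rw [← hk]
      exact ((Commute.refl g).zpow_left k).eq
    rw [Subgroup.mem_normalizer_iff]
    have h5 := eq_or_inv_of_commute h2 h4 h3 (tr_conj g x)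
    have key : ∀ s, s * g = g * s ↔ (x * s * x⁻¹) * g = g * (x * s * x⁻¹) := by
      intro s
      rcases h5 with h5 | h5
      · rw [mul_inv_eq_iff_eq_mul] at h5
        have e : ∀ y, (x * y * x⁻¹) * g = x * (y * g) * x⁻¹ := by
          intro y
          have h6 : x⁻¹ * g = g * x⁻¹ := by
            rw [inv_mul_eq_iff_eq_mul, ← mul_assoc, h5, mul_assoc, mul_inv_cancel, mul_one]
          rw [mul_assoc, h6]; group
        have e' : ∀ y, g * (x * y * x⁻¹) = x * (g * y) * x⁻¹ := by
          intro y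
          rw [← mul_assoc, ← mul_assoc, ← h5]; group
        rw [e, e', mul_left_inj, mul_right_inj]
      · have h7 : x * g⁻¹ * x⁻¹ = g := by
          have := congrArg (fun y => y⁻¹) h5
          simp only [inv_inv] at this
          calc x * g⁻¹ * x⁻¹ = (x * g * x⁻¹)⁻¹ := by group
            _ = g := this
        have e : (x * s * x⁻¹) * g = x * (s * g⁻¹) * x⁻¹ := by
          conv_lhs => rw [← h7]
          group
        have e' : g * (x * s * x⁻¹) = x * (g⁻¹ * s) * x⁻¹ := by
          conv_lhs => rw [← h7]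
          group
        rw [e, e', mul_left_inj, mul_right_inj]
        constructor
        · intro h8
          exact (Commute.inv_right (show Commute s g from h8)).eq
        · intro h8
          have := (Commute.inv_right (show Commute s g⁻¹ from h8)).eq
          rwa [inv_inv] at this
    intro s
    rw [Subgroup.mem_centralizer_singleton_iff, Subgroup.mem_centralizer_singleton_iff]
    exact key s
  · intro x hx
    rcases torus_norm_cases h2 _ g h4 rfl hx with h1 | h1
    · have h3 : x * g * x⁻¹ = g := by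
        rw [Subgroup.mem_centralizer_singleton_iff] at h1
        rw [h1]; group
      have h5 : (Subgroup.zpowers g).map (MulAut.conj x).toMonoidHom = Subgroup.zpowers g := by
        rw [map_zpowers_conj, h3]
      rw [Subgroup.mem_normalizer_iff]
      intro s
      constructor
      · intro hs
        rw [← h5]
        exact ⟨s, hs, rfl⟩
      · intro hs
        rw [← h5] at hs
        obtain ⟨t, ht, hts⟩ := hs
        have : t = s := (MulAut.conj x).injective hts
        rwa [← this]
    · have h5 : (Subgroup.zpowers g).map (MulAut.conj x).toMonoidHom = Subgroup.zpowers g := by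
        rw [map_zpowers_conj, h1, Subgroup.zpowers_inv]
      rw [Subgroup.mem_normalizer_iff]
      intro s
      constructor
      · intro hs
        rw [← h5]
        exact ⟨s, hs, rfl⟩
      · intro hs
        rw [← h5] at hs
        obtain ⟨t, ht, hts⟩ := hs
        have : t = s := (MulAut.conj x).injective hts
        rwa [← this]

theorem card_normalizer [Finite F] (h2 : (2 : F) ≠ 0) {g : Matrix.SpecialLinearGroup (Fin 2) F} (h : tr g = 0) :
    Nat.card (Subgroup.normalizer ((Subgroup.zpowers g : Subgroup (Matrix.SpecialLinearGroup (Fin 2) F)) : Set (Matrix.SpecialLinearGroup (Fin 2) F)))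
      = 2 * Nat.card (Subgroup.centralizer ({g} : Set (Matrix.SpecialLinearGroup (Fin 2) F))) := by
  rw [normalizer_zpowers h2 h]
  exact torus_card_normalizer h2 _ g (sq_ne_four h2 h) rfl

theorem isConj_of_tr [Finite F] (h2 : (2 : F) ≠ 0) {g h : Matrix.SpecialLinearGroup (Fin 2) F} (hg : tr g = 0)
    (hh : tr h = 0) : ∃ P, h = P * g * P⁻¹ :=
  exists_conj_of_tr_eq g h (sq_ne_four h2 hg) (hg.trans hh.symm)

/-- Involutions of `PSL₂` lift to elements of trace zero. -/
theorem tr_of_orderOf_two (h2 : (2 : F) ≠ 0) {g : Matrix.SpecialLinearGroup (Fin 2) F}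
    (h : orderOf (QuotientGroup.mk g : Matrix.ProjectiveSpecialLinearGroup (Fin 2) F) = 2) : tr g = 0 := by
  rw [orderOf_eq_prime_iff] at h
  obtain ⟨h1, h3⟩ := h
  rw [Ne, psl2_mk_eq_one_iff] at h3
  have h4 : (QuotientGroup.mk (g * g) : Matrix.ProjectiveSpecialLinearGroup (Fin 2) F) = 1 := by
    rw [← h1, pow_two]; rfl
  rw [psl2_mk_eq_one_iff] at h4
  rcases h4 with h4 | h4
  · exact absurd (eq_one_or_neg_one h2 h4) h3
  · exact tr_eq_zero h4

theorem orderOf_two_of_tr (h2 : (2 : F) ≠ 0) {g : Matrix.SpecialLinearGroup (Fin 2) F} (h : tr g = 0) :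
    orderOf (QuotientGroup.mk g : Matrix.ProjectiveSpecialLinearGroup (Fin 2) F) = 2 := by
  rw [orderOf_eq_prime_iff]
  have h1 := mul_self_eq_neg_one_of_tr_eq_zero h
  constructor
  · have : (QuotientGroup.mk g : Matrix.ProjectiveSpecialLinearGroup (Fin 2) F) ^ 2 = QuotientGroup.mk (g * g) := by
      rw [pow_two]; rfl
    rw [this, psl2_mk_eq_one_iff, h1]
    right; rfl
  · rw [Ne, psl2_mk_eq_one_iff]
    rintro (h3 | h3)
    · rw [h3] at h1
      exact neg_one_ne_one h2 (by rw [← h1]; simp)
    · rw [h3] at h1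
      exact neg_one_ne_one h2 (by rw [← h1]; simp)

end Cfsg.Agent.H14.SL2Four
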