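import Mathlib

/-! Transitivity of `SL` on nonzero vectors, rank one matrices. -/

set_option autoImplicit false

namespace Cfsg.Agent.H14.SLTrans

open Matrix

/-- `SL(ι, F)` is transitive on nonzero vectors when `ι` has two distinct elements. -/
theorem exists_SL_mulVec_single {ι F : Type*} [Fintype ι] [DecidableEq ι] [Field F] {i j : ι}
    (hij : i ≠ j) (b : ι → F) (hb : b ≠ 0) :
    ∃ g : SpecialLinearGroup ι F, (g : Matrix ι ι F) *ᵥ (Pi.single i 1) = b := by
  have h0 : (Pi.single i 1 : ι → F) ≠ 0 := by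
    intro h
    have := congrFun h i
    simp at this
  obtain ⟨g, hg⟩ := MulAction.exists_smul_eq (SpecialLinearGroup ι F)
    (Projectivization.mk F _ h0) (Projectivization.mk F b hb)
  rw [Projectivization.smul_mk, Projectivization.mk_eq_mk_iff'] at hg
  obtain ⟨a, ha⟩ := hg
  have ha0 : a ≠ 0 := by
    rintro rfl
    rw [zero_smul] at ha
    exact (smul_ne_zero_iff_ne g).mpr h0 ha.symm
  have ha' : (g : Matrix ι ι F) *ᵥ (Pi.single i 1) = a • b := ha.symm
  refine ⟨g * SpecialLinearGroup.diag2n hij a⁻¹ (inv_ne_zero ha0), ?_⟩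
  change ((g : Matrix ι ι F) * (SpecialLinearGroup.diag2n hij a⁻¹ (inv_ne_zero ha0) :
    Matrix ι ι F)) *ᵥ (Pi.single i 1) = b
  rw [← mulVec_mulVec]
  have h2 : (SpecialLinearGroup.diag2n hij a⁻¹ (inv_ne_zero ha0) : Matrix ι ι F) *ᵥ
      (Pi.single i 1) = a⁻¹ • (Pi.single i 1) := by
    rw [SpecialLinearGroup.diag2n_coe]
    funext k
    by_cases hk : k = i
    · subst hk
      simp [Matrix.mulVec_diagonal]
    · simp [Matrix.mulVec_diagonal, hk]
  rw [h2, mulVec_smul, ha', smul_smul, inv_mul_cancel₀ ha0, one_smul]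

/-- dual version: a nonzero row vector can be moved to `e_iᵀ`. -/
theorem exists_SL_vecMul {ι F : Type*} [Fintype ι] [DecidableEq ι] [Field F] {i j : ι}
    (hij : i ≠ j) (b : ι → F) (hb : b ≠ 0) :
    ∃ g : SpecialLinearGroup ι F, b ᵥ* (g : Matrix ι ι F) = Pi.single i 1 := by
  obtain ⟨h, hh⟩ := exists_SL_mulVec_single hij b hb
  refine ⟨(h⁻¹).transpose, ?_⟩
  have h1 : ((h⁻¹ : SpecialLinearGroup ι F) : Matrix ι ι F) * (h : Matrix ι ι F) = 1 := by
    have := congrArg (fun x : SpecialLinearGroup ι F => (x : Matrix ι ι F)) (inv_mul_cancel h)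
    exact this
  rw [SpecialLinearGroup.coe_transpose, vecMul_transpose, ← hh, mulVec_mulVec, h1, one_mulVec]

/-- A matrix of rank one is an outer product. -/
theorem exists_vecMulVec_of_rank_one {m n F : Type*} [Fintype m] [Fintype n] [Field F]
    (A : Matrix m n F) (hA : A.rank = 1) :
    ∃ (a : m → F) (b : n → F), A = vecMulVec a b ∧ a ≠ 0 ∧ b ≠ 0 := by
  classical
  have h1 : Module.finrank F (LinearMap.range A.mulVecLin) = 1 := hA
  obtain ⟨⟨a, har⟩, ha0, hspan⟩ := finrank_eq_one_iff'.1 h1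
  have hcol : ∀ j : n, ∃ c : F, c • a = A *ᵥ (Pi.single j 1) := by
    intro j
    obtain ⟨c, hc⟩ := hspan ⟨A *ᵥ (Pi.single j 1), ⟨Pi.single j 1, rfl⟩⟩
    exact ⟨c, congrArg Subtype.val hc⟩
  choose b hb using hcol
  have hAeq : A = vecMulVec a b := by
    ext i j
    have := congrFun (hb j) i
    simp only [Pi.smul_apply, smul_eq_mul, mulVec_single] at this
    rw [vecMulVec_apply, mul_comm, this]
    simp
  refine ⟨a, b, hAeq, ?_, ?_⟩
  · intro h
    apply ha0
    simp [h]
  · rintro rfl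
    have h0 : vecMulVec a (0 : n → F) = 0 := by ext; simp [vecMulVec_apply]
    have h2 : (0 : Matrix m n F).rank = 1 := by
      have := hA
      rw [hAeq] at this
      rwa [← h0]
    rw [rank_zero] at h2
    exact zero_ne_one h2

end Cfsg.Agent.H14.SLTrans
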