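import Cfsg.Agent.H14.SL2Four
import Cfsg.Agent.H14.SubField
import Cfsg.Agent.CharBase.Column

/-! Klein four-subgroups; their number in `PSL₂(q)`. -/

set_option autoImplicit false

namespace Cfsg.Agent.H14.Klein

section general

variable {G : Type*} [Group G]

/-- `x`, `y` are distinct commuting involutions. -/
def Pair (x y : G) : Prop := x * x = 1 ∧ y * y = 1 ∧ x * y = y * x ∧ x ≠ 1 ∧ y ≠ 1 ∧ x ≠ y

/-- The subgroup `{1,x,y,xy}`. -/
def K4 (x y : G) (h : Pair x y) : Subgroup G where
  carrier := {1, x, y, x * y}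
  one_mem' := by simp
  mul_mem' := by
    obtain ⟨hx, hy, hxy, -, -, -⟩ := h
    have e1 : x * (x * y) = y := by rw [← mul_assoc, hx, one_mul]
    have e2 : y * (x * y) = x := by rw [hxy, ← mul_assoc, hy, one_mul]
    have e3 : (x * y) * x = y := by rw [hxy, mul_assoc, hx, mul_one]
    have e4 : (x * y) * y = x := by rw [mul_assoc, hy, mul_one]
    have e5 : (x * y) * (x * y) = 1 := by rw [mul_assoc, e2, hx]
    rintro a b ha hb
    simp only [Set.mem_insert_iff, Set.mem_singleton_iff] at ha hb ⊢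
    rcases ha with rfl | rfl | rfl | rfl <;> rcases hb with rfl | rfl | rfl | rfl
    · simp
    · simp
    · simp
    · simp
    · simp
    · left; exact hx
    · right; right; right; rfl
    · right; right; left; exact e1
    · simp
    · right; right; right; exact hxy.symm
    · left; exact hy
    · right; left; exact e2
    · simp
    · right; right; left; exact e3
    · right; left; exact e4
    · left; exact e5
  inv_mem' := by
    obtain ⟨hx, hy, hxy, -, -, -⟩ := h
    have i1 : x⁻¹ = x := inv_eq_of_mul_eq_one_left hx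
    have i2 : y⁻¹ = y := inv_eq_of_mul_eq_one_left hy
    rintro a ha
    simp only [Set.mem_insert_iff, Set.mem_singleton_iff] at ha ⊢
    rcases ha with rfl | rfl | rfl | rfl
    · simp
    · right; left; exact i1
    · right; right; left; exact i2
    · right; right; right; rw [mul_inv_rev, i1, i2, hxy]

theorem mem_K4 {x y : G} (h : Pair x y) {g : G} : g ∈ K4 x y h ↔ g = 1 ∨ g = x ∨ g = y ∨ g = x * y := Iff.rfl

theorem card_K4 {x y : G} (h : Pair x y) : Nat.card (K4 x y h) = 4 := by
  classical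
  obtain ⟨hx, hy, hxy, h1, h2, h3⟩ := id h
  have : Nat.card (K4 x y h) = Set.ncard ({1, x, y, x * y} : Set G) := rfl
  rw [this]
  have e : ({1, x, y, x * y} : Set G) = (({1, x, y, x * y} : Finset G) : Set G) := by simp
  rw [e, Set.ncard_coe_finset]
  rw [Finset.card_insert_of_notMem, Finset.card_insert_of_notMem, Finset.card_insert_of_notMem,
    Finset.card_singleton]
  · simp only [Finset.mem_singleton]
    intro h4
    exact h1 (right_eq_mul.1 h4)
  · simp only [Finset.mem_insert, Finset.mem_singleton, not_or]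
    refine ⟨h3, fun h4 => h2 (left_eq_mul.1 h4)⟩
  · simp only [Finset.mem_insert, Finset.mem_singleton, not_or]
    refine ⟨h1.symm, h2.symm, fun h4 => h3 ?_⟩
    have : x * y = x * x := by rw [← h4, hx]
    exact (mul_left_cancel this).symm

theorem K4_isKleinFour {x y : G} (h : Pair x y) : IsKleinFour (K4 x y h) := by
  obtain ⟨hx, hy, hxy, h1, h2, h3⟩ := id h
  refine ⟨card_K4 h, ?_⟩
  have hdvd : Monoid.exponent (K4 x y h) ∣ 2 := by
    apply Monoid.exponent_dvd_of_forall_pow_eq_one
    rintro ⟨g, hg⟩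
    apply Subtype.ext
    rw [Subgroup.coe_pow, Subgroup.coe_one, pow_two]
    change g * g = 1
    rcases (mem_K4 h).1 hg with rfl | rfl | rfl | rfl
    · simp
    · exact hx
    · exact hy
    · rw [mul_assoc, ← mul_assoc y, ← hxy, mul_assoc x y y, hy, mul_one, hx]
  rcases (Nat.dvd_prime Nat.prime_two).1 hdvd with h4 | h4
  · exfalso
    rw [Monoid.exp_eq_one_iff] at h4
    have := card_K4 h
    rw [Nat.card_of_subsingleton (1 : K4 x y h)] at this
    omega
  · exact h4

theorem mul_self_of_klein {V : Subgroup G} (hV : IsKleinFour V) {x : G} (hx : x ∈ V) : x * x = 1 := by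
  have := hV.mul_self (⟨x, hx⟩ : V)
  exact congrArg Subtype.val this

theorem comm_of_klein {V : Subgroup G} (hV : IsKleinFour V) {x y : G} (hx : x ∈ V) (hy : y ∈ V) :
    x * y = y * x := by
  have h1 := mul_self_of_klein hV hx
  have h2 := mul_self_of_klein hV hy
  have h3 := mul_self_of_klein hV (V.mul_mem hx hy)
  have i1 : x⁻¹ = x := inv_eq_of_mul_eq_one_left h1
  have i2 : y⁻¹ = y := inv_eq_of_mul_eq_one_left h2
  have i3 : (x * y)⁻¹ = x * y := inv_eq_of_mul_eq_one_left h3
  rw [mul_inv_rev, i1, i2] at i3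
  exact i3.symm

theorem pair_of_klein {V : Subgroup G} (hV : IsKleinFour V) {x y : G} (hx : x ∈ V) (hy : y ∈ V)
    (h1 : x ≠ 1) (h2 : y ≠ 1) (h3 : x ≠ y) : Pair x y :=
  ⟨mul_self_of_klein hV hx, mul_self_of_klein hV hy, comm_of_klein hV hx hy, h1, h2, h3⟩

theorem eq_K4 {V : Subgroup G} (hV : IsKleinFour V) {x y : G} (hx : x ∈ V) (hy : y ∈ V) (h : Pair x y) :
    K4 x y h = V := by
  have hc : Nat.card V = 4 := hV.card_four
  have : Finite V := Nat.finite_of_card_ne_zero (by omega)
  apply Subgroup.eq_of_le_of_card_ge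
  · intro g hg
    rcases (mem_K4 h).1 hg with rfl | rfl | rfl | rfl
    · exact V.one_mem
    · exact hx
    · exact hy
    · exact V.mul_mem hx hy
  · rw [card_K4, hc]

theorem card_pairs_of_klein {V : Type*} [Group V] (hV : IsKleinFour V) :
    Nat.card {p : V × V // p.1 ≠ 1 ∧ p.2 ≠ 1 ∧ p.1 ≠ p.2} = 6 := by
  have := hV
  obtain ⟨e⟩ := IsKleinFour.nonempty_mulEquiv (G₁ := V) (G₂ := DihedralGroup 2)
  have e2 : {p : V × V // p.1 ≠ 1 ∧ p.2 ≠ 1 ∧ p.1 ≠ p.2} ≃
      {p : DihedralGroup 2 × DihedralGroup 2 // p.1 ≠ 1 ∧ p.2 ≠ 1 ∧ p.1 ≠ p.2} := by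
    refine (Equiv.prodCongr e.toEquiv e.toEquiv).subtypeEquiv ?_
    rintro ⟨x, y⟩
    simp [e.injective.ne_iff]
  rw [Nat.card_congr e2, Nat.card_eq_fintype_card]
  decide

theorem card_pairs [Finite G] : Nat.card {p : G × G // Pair p.1 p.2} =
    6 * Nat.card {V : Subgroup G // IsKleinFour V} := by
  classical
  have e : {p : G × G // Pair p.1 p.2} ≃
      Σ V : {V : Subgroup G // IsKleinFour V}, {p : V.1 × V.1 // p.1 ≠ 1 ∧ p.2 ≠ 1 ∧ p.1 ≠ p.2} :=
    { toFun := fun p => ⟨⟨K4 p.1.1 p.1.2 p.2, K4_isKleinFour p.2⟩,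
        ⟨(⟨p.1.1, by right; left; rfl⟩, ⟨p.1.2, by right; right; left; rfl⟩),
          by
            obtain ⟨-, -, -, h1, h2, h3⟩ := p.2
            exact ⟨fun h => h1 (congrArg Subtype.val h), fun h => h2 (congrArg Subtype.val h),
              fun h => h3 (congrArg Subtype.val h)⟩⟩⟩
      invFun := fun s => ⟨(s.2.1.1.1, s.2.1.2.1), by
        obtain ⟨V, ⟨⟨x, y⟩, h1, h2, h3⟩⟩ := s
        exact pair_of_klein V.2 x.2 y.2 (fun h => h1 (Subtype.ext h)) (fun h => h2 (Subtype.ext h))
          (fun h => h3 (Subtype.ext h))⟩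
      left_inv := by
        rintro ⟨⟨x, y⟩, h⟩
        rfl
      right_inv := by
        rintro ⟨⟨V, hV⟩, ⟨⟨⟨x, hx⟩, ⟨y, hy⟩⟩, h1, h2, h3⟩⟩
        have hp : Pair x y := pair_of_klein hV hx hy (fun h => h1 (Subtype.ext h)) (fun h => h2 (Subtype.ext h))
          (fun h => h3 (Subtype.ext h))
        have hVe : K4 x y hp = V := eq_K4 hV hx hy hp
        subst hVe
        rfl }
  have : Fintype {V : Subgroup G // IsKleinFour V} := Fintype.ofFinite _
  rw [Nat.card_congr e, Nat.card_sigma]
  have : ∀ V : {V : Subgroup G // IsKleinFour V}, Nat.card {p : V.1 × V.1 // p.1 ≠ 1 ∧ p.2 ≠ 1 ∧ p.1 ≠ p.2} = 6 :=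
    fun V => card_pairs_of_klein V.2
  simp only [this, Finset.sum_const, Finset.card_univ, smul_eq_mul, Nat.card_eq_fintype_card]
  ring

theorem card_preimage {A B : Type*} [Group A] [Group B] [Finite A] (φ : A →* B) (hφ : Function.Surjective φ)
    (P : B → Prop) : Nat.card {a : A // P (φ a)} = Nat.card φ.ker * Nat.card {b : B // P b} := by
  classical
  choose s hs using hφ
  have e : {a : A // P (φ a)} ≃ φ.ker × {b : B // P b} :=
    { toFun := fun a => (⟨a.1 * (s (φ a.1))⁻¹, by rw [MonoidHom.mem_ker, map_mul, map_inv, hs, mul_inv_cancel]⟩, ⟨φ a.1, a.2⟩)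
      invFun := fun p => ⟨p.1.1 * s p.2.1, by
        have : φ p.1.1 = 1 := p.1.2
        rw [map_mul, this, one_mul, hs]; exact p.2.2⟩
      left_inv := by
        rintro ⟨a, ha⟩
        simp
      right_inv := by
        rintro ⟨⟨k, hk⟩, ⟨b, hb⟩⟩
        have hk' : φ k = 1 := hk
        simp [hs, hk'] }
  rw [Nat.card_congr e, Nat.card_prod]

theorem mem_normalizer_iff_map (V : Subgroup G) (g : G) :
    g ∈ Subgroup.normalizer (V : Set G) ↔ V.map (MulAut.conj g).toMonoidHom = V := by
  rw [Subgroup.mem_normalizer_iff]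
  constructor
  · intro h
    ext x
    constructor
    · rintro ⟨y, hy, rfl⟩
      exact (h y).1 hy
    · intro hx
      refine ⟨g⁻¹ * x * g, (h _).2 ?_, ?_⟩
      · have : g * (g⁻¹ * x * g) * g⁻¹ = x := by group
        rw [this]; exact hx
      · change g * (g⁻¹ * x * g) * g⁻¹ = x
        group
  · intro h x
    constructor
    · intro hx
      rw [← h]
      exact ⟨x, hx, rfl⟩
    · intro hx
      rw [← h] at hx
      obtain ⟨y, hy, hyx⟩ := hx
      have : y = x := (MulAut.conj g).injective hyx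
      rwa [← this]

theorem map_conj_mul (V : Subgroup G) (g h : G) :
    V.map (MulAut.conj (g * h)).toMonoidHom = (V.map (MulAut.conj h).toMonoidHom).map (MulAut.conj g).toMonoidHom := by
  rw [Subgroup.map_map]
  congr 1
  ext x
  simp [mul_assoc]

/-- The number of conjugates of a subgroup. -/
theorem card_conj_mul [Finite G] (V : Subgroup G) :
    Nat.card {W : Subgroup G // ∃ g : G, W = V.map (MulAut.conj g).toMonoidHom} *
      Nat.card (Subgroup.normalizer (V : Set G)) = Nat.card G := by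
  classical
  let c : {W : Subgroup G // ∃ g : G, W = V.map (MulAut.conj g).toMonoidHom} → G := fun W => W.2.choose
  have hc : ∀ W : {W : Subgroup G // ∃ g : G, W = V.map (MulAut.conj g).toMonoidHom},
      W.1 = V.map (MulAut.conj (c W)).toMonoidHom := fun W => W.2.choose_spec
  have key : ∀ (W : {W : Subgroup G // ∃ g : G, W = V.map (MulAut.conj g).toMonoidHom}) (g : G),
      W.1 = V.map (MulAut.conj g).toMonoidHom → (c W)⁻¹ * g ∈ Subgroup.normalizer (V : Set G) := by
    intro W g hW
    rw [mem_normalizer_iff_map, map_conj_mul, ← hW, hc W, ← map_conj_mul, inv_mul_cancel]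
    have : (MulAut.conj (1 : G)).toMonoidHom = MonoidHom.id G := by
      ext x; simp
    rw [this, Subgroup.map_id]
  have e : G ≃ {W : Subgroup G // ∃ g : G, W = V.map (MulAut.conj g).toMonoidHom} ×
      (Subgroup.normalizer (V : Set G)) :=
    { toFun := fun g => (⟨V.map (MulAut.conj g).toMonoidHom, g, rfl⟩,
        ⟨(c ⟨V.map (MulAut.conj g).toMonoidHom, g, rfl⟩)⁻¹ * g, key _ g rfl⟩)
      invFun := fun p => c p.1 * p.2.1
      left_inv := by
        intro g
        simp
      right_inv := by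
        rintro ⟨W, ⟨n, hn⟩⟩
        have h1 : V.map (MulAut.conj (c W * n)).toMonoidHom = W.1 := by
          rw [map_conj_mul, (mem_normalizer_iff_map V n).1 hn, ← hc]
        apply Prod.ext
        · exact Subtype.ext h1
        · apply Subtype.ext
          change (c ⟨V.map (MulAut.conj (c W * n)).toMonoidHom, _, rfl⟩)⁻¹ * (c W * n) = n
          have h2 : (⟨V.map (MulAut.conj (c W * n)).toMonoidHom, _, rfl⟩ :
            {W : Subgroup G // ∃ g : G, W = V.map (MulAut.conj g).toMonoidHom}) = W := Subtype.ext h1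
          rw [h2]
          group }
  rw [Nat.card_congr e, Nat.card_prod]

/-- The action of the normalizer of a Klein four-group on its non-identity elements. -/
noncomputable def permHom (V : Subgroup G) : Subgroup.normalizer (V : Set G) →* Equiv.Perm {v : V // v ≠ 1} where
  toFun g :=
    { toFun := fun v => ⟨⟨g.1 * v.1.1 * g.1⁻¹, (Subgroup.mem_normalizer_iff.1 g.2 _).1 v.1.2⟩, by
        intro h
        apply v.2
        apply Subtype.ext
        have := congrArg Subtype.val h
        exact conj_eq_one_iff.1 this⟩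
      invFun := fun v => ⟨⟨g.1⁻¹ * v.1.1 * g.1, by
          have := (Subgroup.mem_normalizer_iff.1 (Subgroup.inv_mem _ g.2) v.1.1).1 v.1.2
          rwa [inv_inv] at this⟩, by
        intro h
        apply v.2
        apply Subtype.ext
        have := congrArg Subtype.val h
        change g.1⁻¹ * v.1.1 * g.1 = 1 at this
        change v.1.1 = 1
        have h2 : v.1.1 = g.1 * (g.1⁻¹ * v.1.1 * g.1) * g.1⁻¹ := by group
        rw [h2, this]; group⟩
      left_inv := by
        intro v
        apply Subtype.ext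
        apply Subtype.ext
        change g.1⁻¹ * (g.1 * v.1.1 * g.1⁻¹) * g.1 = v.1.1
        group
      right_inv := by
        intro v
        apply Subtype.ext
        apply Subtype.ext
        change g.1 * (g.1⁻¹ * v.1.1 * g.1) * g.1⁻¹ = v.1.1
        group }
  map_one' := by
    ext v
    change (1 : G) * v.1.1 * (1 : G)⁻¹ = v.1.1
    group
  map_mul' g h := by
    ext v
    change (g.1 * h.1) * v.1.1 * (g.1 * h.1)⁻¹ = g.1 * (h.1 * v.1.1 * h.1⁻¹) * g.1⁻¹
    group

theorem permHom_apply (V : Subgroup G) (g : Subgroup.normalizer (V : Set G)) (v : {v : V // v ≠ 1}) :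
    ((permHom V g v).1 : G) = g.1 * v.1.1 * g.1⁻¹ := rfl

theorem mem_ker_permHom (V : Subgroup G) (g : Subgroup.normalizer (V : Set G)) :
    g ∈ (permHom V).ker ↔ g.1 ∈ Subgroup.centralizer (V : Set G) := by
  rw [MonoidHom.mem_ker, Subgroup.mem_centralizer_iff]
  constructor
  · intro h x hx
    by_cases hx1 : x = 1
    · rw [hx1]; group
    · have h1 : ((permHom V g ⟨⟨x, hx⟩, fun h => hx1 (congrArg Subtype.val h)⟩).1 : G) = x := by rw [h]; rfl
      rw [permHom_apply] at h1
      change g.1 * x * g.1⁻¹ = x at h1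
      rw [mul_inv_eq_iff_eq_mul] at h1
      exact h1.symm
  · intro h
    ext v
    change g.1 * v.1.1 * g.1⁻¹ = v.1.1
    rw [← h v.1.1 v.1.2]
    group

/-- If a Klein four-group is self-centralizing, its normalizer has order dividing 24. -/
theorem card_normalizer_dvd [Finite G] {V : Subgroup G} (hV : IsKleinFour V)
    (hC : Subgroup.centralizer (V : Set G) ≤ V) : Nat.card (Subgroup.normalizer (V : Set G)) ∣ 24 := by
  classical
  have h4 : Nat.card V = 4 := hV.card_four
  have h1 : Nat.card (permHom V).ker = 4 := by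
    rw [← h4]
    refine Nat.card_congr
      { toFun := fun g => ⟨g.1.1, hC ((mem_ker_permHom V g.1).1 g.2)⟩
        invFun := fun v => ⟨⟨v.1, Subgroup.le_normalizer v.2⟩, (mem_ker_permHom V _).2 (by
          rw [Subgroup.mem_centralizer_iff]
          intro x hx
          exact comm_of_klein hV hx v.2)⟩
        left_inv := fun _ => rfl
        right_inv := fun _ => rfl }
  have h2 : Nat.card (permHom V).ker * Nat.card (permHom V).range = Nat.card (Subgroup.normalizer (V : Set G)) := by
    rw [← Subgroup.index_ker, Subgroup.card_mul_index]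
  have h3 : Nat.card (permHom V).range ∣ Nat.card (Equiv.Perm {v : V // v ≠ 1}) := Subgroup.card_subgroup_dvd_card _
  have h5 : Nat.card (Equiv.Perm {v : V // v ≠ 1}) = 6 := by
    have h6 : Nat.card {v : V // v ≠ 1} = 3 := by
      have : Nat.card {v : V // v ≠ 1} = Nat.card V - 1 := by
        have := Fintype.ofFinite V
        rw [Nat.card_eq_fintype_card, Nat.card_eq_fintype_card]
        rw [Fintype.card_subtype_compl]
        simp
      rw [this, h4]
    have := Fintype.ofFinite {v : V // v ≠ 1}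
    rw [Nat.card_perm, h6]
    rfl
  rw [h5] at h3
  rw [← h2, h1]
  exact Nat.mul_dvd_mul_left 4 h3

end general

section PSL

open Cfsg.Agent.H41 Cfsg.Agent.H14.SL2Four

variable {F : Type*} [Field F] [Finite F]

omit [Finite F] in
theorem inv_eq_neg {a : Matrix.SpecialLinearGroup (Fin 2) F} (h : tr a = 0) : a⁻¹ = -a := by
  rw [inv_eq_iff_mul_eq_one, mul_neg, mul_self_eq_neg_one_of_tr_eq_zero h, neg_neg]

theorem pair_iff (h2 : (2 : F) ≠ 0) (a b : Matrix.SpecialLinearGroup (Fin 2) F) :
    Pair (QuotientGroup.mk a : Matrix.ProjectiveSpecialLinearGroup (Fin 2) F) (QuotientGroup.mk b) ↔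
      tr a = 0 ∧ b * a * b⁻¹ = a⁻¹ := by
  constructor
  · rintro ⟨h1, h3, h4, h5, h6, h7⟩
    have ha : tr a = 0 := tr_of_orderOf_two h2 ((orderOf_eq_prime_iff).2 ⟨by rw [pow_two, h1], h5⟩)
    have hb : tr b = 0 := tr_of_orderOf_two h2 ((orderOf_eq_prime_iff).2 ⟨by rw [pow_two, h3], h6⟩)
    refine ⟨ha, ?_⟩
    have h8 : (QuotientGroup.mk (b * a) : Matrix.ProjectiveSpecialLinearGroup (Fin 2) F) = QuotientGroup.mk (a * b) := h4.symm
    rw [psl2_mk_eq_iff] at h8
    rcases h8 with h8 | h8
    · exfalso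
      rcases eq_or_inv_of_commute h2 (sq_ne_four h2 ha) h8 (hb.trans ha.symm) with h9 | h9
      · exact h7 (by rw [h9])
      · apply h7
        rw [psl2_mk_eq_iff]
        right
        rw [h9, inv_eq_neg ha, neg_neg]
    · rw [mul_inv_eq_iff_eq_mul, h8, inv_eq_neg ha, neg_mul]
  · rintro ⟨ha, hab⟩
    have hb : tr b = 0 := tr_eq_zero_of_inverts (sq_ne_four h2 ha) hab
    have ox := orderOf_two_of_tr h2 ha
    have oy := orderOf_two_of_tr h2 hb
    rw [orderOf_eq_prime_iff, pow_two] at ox oy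
    refine ⟨ox.1, oy.1, ?_, ox.2, oy.2, ?_⟩
    · have : (QuotientGroup.mk (a * b) : Matrix.ProjectiveSpecialLinearGroup (Fin 2) F) = QuotientGroup.mk (b * a) := by
        rw [psl2_mk_eq_iff]
        right
        rw [mul_inv_eq_iff_eq_mul, inv_eq_neg ha] at hab
        rw [hab, neg_mul, neg_neg]
      exact this
    · intro h
      have h9 : b * a * b⁻¹ = a := by
        rw [psl2_mk_eq_iff] at h
        rcases h with h | h
        · rw [← h]; group
        · rw [h]
          simp
      rw [h9] at hab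
      have : a * a = 1 := by nth_rewrite 1 [hab]; simp
      rw [mul_self_eq_neg_one_of_tr_eq_zero ha] at this
      exact neg_one_ne_one h2 this

theorem card_inverting (h2 : (2 : F) ≠ 0) {a : Matrix.SpecialLinearGroup (Fin 2) F} (ha : tr a = 0) :
    Nat.card {b : Matrix.SpecialLinearGroup (Fin 2) F // b * a * b⁻¹ = a⁻¹} =
      Nat.card (Subgroup.centralizer ({a} : Set (Matrix.SpecialLinearGroup (Fin 2) F))) := by
  obtain ⟨w, hw⟩ := isConj_of_tr h2 ha (show tr a⁻¹ = 0 by rw [tr_inv, ha])
  refine Nat.card_congr (Equiv.subtypeEquiv (Equiv.mulLeft w⁻¹) ?_)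
  intro b
  rw [Equiv.coe_mulLeft, Subgroup.mem_centralizer_singleton_iff, hw]
  constructor
  · intro h
    rw [mul_inv_eq_iff_eq_mul] at h
    rw [mul_assoc, h]; group
  · intro h
    have : b * a = w * (w⁻¹ * b * a) := by group
    rw [mul_inv_eq_iff_eq_mul, this, h]; group

theorem card_S (h2 : (2 : F) ≠ 0) :
    Nat.card {p : Matrix.SpecialLinearGroup (Fin 2) F × Matrix.SpecialLinearGroup (Fin 2) F //
      tr p.1 = 0 ∧ p.2 * p.1 * p.2⁻¹ = p.1⁻¹} = Nat.card (Matrix.SpecialLinearGroup (Fin 2) F) := by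
  classical
  have e : {p : Matrix.SpecialLinearGroup (Fin 2) F × Matrix.SpecialLinearGroup (Fin 2) F //
      tr p.1 = 0 ∧ p.2 * p.1 * p.2⁻¹ = p.1⁻¹} ≃
      Σ a : {a : Matrix.SpecialLinearGroup (Fin 2) F // tr a = 0},
        {b : Matrix.SpecialLinearGroup (Fin 2) F // b * a.1 * b⁻¹ = a.1⁻¹} :=
    { toFun := fun p => ⟨⟨p.1.1, p.2.1⟩, ⟨p.1.2, p.2.2⟩⟩
      invFun := fun s => ⟨(s.1.1, s.2.1), s.1.2, s.2.2⟩
      left_inv := fun _ => rfl
      right_inv := fun _ => rfl }
  set a₀ : Matrix.SpecialLinearGroup (Fin 2) F := comp 0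
  have ha₀ : tr a₀ = 0 := tr_comp 0
  have : Fintype {a : Matrix.SpecialLinearGroup (Fin 2) F // tr a = 0} := Fintype.ofFinite _
  rw [Nat.card_congr e, Nat.card_sigma]
  have h3 : ∀ a : {a : Matrix.SpecialLinearGroup (Fin 2) F // tr a = 0},
      Nat.card {b : Matrix.SpecialLinearGroup (Fin 2) F // b * a.1 * b⁻¹ = a.1⁻¹} =
        Nat.card (Subgroup.centralizer ({a₀} : Set (Matrix.SpecialLinearGroup (Fin 2) F))) := by
    intro a
    rw [card_inverting h2 a.2]
    obtain ⟨P, hP⟩ := isConj_of_tr h2 ha₀ a.2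
    rw [hP, card_centralizer_conj]
  simp only [h3, Finset.sum_const, Finset.card_univ, smul_eq_mul]
  rw [← CharBase.card_isConj_mul_card_centralizer a₀, ← Nat.card_eq_fintype_card]
  congr 1
  refine Nat.card_congr (Equiv.subtypeEquivRight fun a => ?_)
  rw [isConj_iff]
  constructor
  · intro ha
    obtain ⟨P, hP⟩ := isConj_of_tr h2 ha₀ ha
    exact ⟨P, hP.symm⟩
  · rintro ⟨P, hP⟩
    rw [← hP, tr_conj, ha₀]

theorem card_klein (h2 : (2 : F) ≠ 0) : 24 * Nat.card {V : Subgroup (Matrix.ProjectiveSpecialLinearGroup (Fin 2) F) // IsKleinFour V}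
    = Nat.card (Matrix.SpecialLinearGroup (Fin 2) F) := by
  set π : Matrix.SpecialLinearGroup (Fin 2) F →* Matrix.ProjectiveSpecialLinearGroup (Fin 2) F :=
    QuotientGroup.mk' (Subgroup.center (Matrix.SpecialLinearGroup (Fin 2) F))
  have hπ : Function.Surjective (π.prodMap π) := by
    rintro ⟨x, y⟩
    obtain ⟨a, ha⟩ := QuotientGroup.mk'_surjective _ x
    obtain ⟨b, hb⟩ := QuotientGroup.mk'_surjective _ y
    exact ⟨(a, b), Prod.ext ha hb⟩
  have : Finite (Matrix.ProjectiveSpecialLinearGroup (Fin 2) F) :=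
    Finite.of_surjective π (QuotientGroup.mk'_surjective _)
  have h1 := card_preimage (π.prodMap π) hπ (fun p => Pair p.1 p.2)
  have hker : Nat.card (π.prodMap π).ker = 4 := by
    rw [MonoidHom.ker_prodMap, Nat.card_congr (Subgroup.prodEquiv _ _).toEquiv, Nat.card_prod,
      QuotientGroup.ker_mk', H81.card_center_sl2 h2]
  rw [hker, card_pairs] at h1
  have h3 : Nat.card {a : Matrix.SpecialLinearGroup (Fin 2) F × Matrix.SpecialLinearGroup (Fin 2) F //
      Pair ((π.prodMap π) a).1 ((π.prodMap π) a).2} = Nat.card (Matrix.SpecialLinearGroup (Fin 2) F) := by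
    rw [← card_S h2]
    exact Nat.card_congr (Equiv.subtypeEquivRight fun p => pair_iff h2 p.1 p.2)
  rw [h3] at h1
  rw [h1]; ring

end PSL

end Cfsg.Agent.H14.Klein
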