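import Cfsg.Agent.H14.Tri
import Cfsg.Agent.H14.Klein
import Cfsg.Agent.Orth.Homs

/-! `A₅` in `PSL₂(q)`. -/

set_option autoImplicit false

namespace Cfsg.Agent.H14.PSL2Sub

open Cfsg.Agent.H41

variable {F : Type*} [Field F]

/-- An element of order five in `SL₂(F)` has trace `± t` with `t² + t - 1 = 0`. -/
theorem exists_t {Y : Matrix.SpecialLinearGroup (Fin 2) F} (hY : orderOf Y = 5) :
    ∃ t : F, t ^ 2 + t - 1 = 0 := by
  have h5 : Y ^ 5 = 1 := by rw [← hY]; exact pow_orderOf_eq_one Y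
  have h1 : Y ≠ 1 := by rintro rfl; rw [orderOf_one] at hY; omega
  set t := tr Y with ht
  have hdet := det_eq Y
  -- entries of Y^5
  have e : (Y : Matrix (Fin 2) (Fin 2) F) ^ 5 =
      (t ^ 4 - 3 * t ^ 2 + 1) • (Y : Matrix (Fin 2) (Fin 2) F) - (t ^ 3 - 2 * t) • (1 : Matrix (Fin 2) (Fin 2) F) := by
    have c := cayley_sl2 Y
    rw [← ht] at c
    have c3 : (Y : Matrix (Fin 2) (Fin 2) F) ^ 5 = (Y : Matrix (Fin 2) (Fin 2) F) * ((Y : Matrix (Fin 2) (Fin 2) F) * Y) * ((Y : Matrix (Fin 2) (Fin 2) F) * Y) := by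
      simp only [pow_succ, pow_zero, one_mul, mul_assoc]
    rw [c3, c]
    have c4 : (Y : Matrix (Fin 2) (Fin 2) F) * (t • (Y : Matrix (Fin 2) (Fin 2) F) - 1) = (t ^ 2 - 1) • (Y : Matrix (Fin 2) (Fin 2) F) - t • 1 := by
      rw [mul_sub, mul_smul_comm, c, mul_one]
      module
    rw [c4, sub_mul, mul_sub, smul_mul_assoc, mul_smul_comm, c]
    simp only [smul_mul_assoc, one_mul, mul_one]
    module
  have h5' : (Y : Matrix (Fin 2) (Fin 2) F) ^ 5 = 1 := by
    have := congrArg (fun M : Matrix.SpecialLinearGroup (Fin 2) F => (M : Matrix (Fin 2) (Fin 2) F)) h5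
    simpa using this
  rw [h5'] at e
  by_cases hu : t ^ 4 - 3 * t ^ 2 + 1 = 0
  · have hf : (t ^ 2 + t - 1) * (t ^ 2 - t - 1) = 0 := by linear_combination hu
    rcases mul_eq_zero.1 hf with h | h
    · exact ⟨t, h⟩
    · exact ⟨-t, by linear_combination h⟩
  · exfalso
    have e01 := congrArg (fun M => M 0 1) e
    have e10 := congrArg (fun M => M 1 0) e
    have e00 := congrArg (fun M => M 0 0) e
    have e11 := congrArg (fun M => M 1 1) e
    simp at e01 e10 e00 e11
    have h01 : Y 0 1 = 0 := by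
      rcases e01 with h | h
      · exact absurd h hu
      · exact h
    have h10 : Y 1 0 = 0 := by
      rcases e10 with h | h
      · exact absurd h hu
      · exact h
    have h00 : Y 0 0 = Y 1 1 := by
      have : (t ^ 4 - 3 * t ^ 2 + 1) * (Y 0 0 - Y 1 1) = 0 := by linear_combination e11 - e00
      rcases mul_eq_zero.1 this with h | h
      · exact absurd h hu
      · exact sub_eq_zero.1 h
    rw [h01, h10, h00, mul_zero, sub_zero] at hdet
    have hc : Y = 1 ∨ Y = -1 := by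
      have : (Y 1 1 - 1) * (Y 1 1 + 1) = 0 := by linear_combination hdet
      rcases mul_eq_zero.1 this with h | h
      · left
        apply sl2_ext <;> simp [h01, h10, h00, sub_eq_zero.1 h]
      · right
        have : Y 1 1 = -1 := by linear_combination h
        apply sl2_ext <;> simp [h01, h10, h00, this]
    rcases hc with h | h
    · exact h1 h
    · have h2 : Y ^ 2 = 1 := by rw [h]; simp
      have := orderOf_dvd_of_pow_eq_one h2
      rw [hY] at this
      omega

theorem exists_ab [Finite F] {t : F} (ht : t ^ 2 + t - 1 = 0) : ∃ a b : F, a * (-1 - a) - b * (b - t) = 1 := by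
  by_cases h2 : (2 : F) = 0
  · refine ⟨t, 0, ?_⟩
    linear_combination -ht - h2
  · obtain ⟨x, y, hxy⟩ := Orth.exists_sum_sq (F := F) one_ne_zero one_ne_zero ((t ^ 2 - 3) / 4)
    have h4 : (4 : F) ≠ 0 := by
      have : (4 : F) = 2 * 2 := by norm_num
      rw [this]; exact mul_ne_zero h2 h2
    refine ⟨x - 1 / 2, y + t / 2, ?_⟩
    field_simp at hxy ⊢
    linear_combination -hxy

theorem exists_alt5 [Finite F] {t : F} (ht : t ^ 2 + t - 1 = 0) :
    ∃ H : Subgroup (Matrix.ProjectiveSpecialLinearGroup (Fin 2) F), Nonempty (H ≃* alternatingGroup (Fin 5)) := by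
  obtain ⟨a, b, hab⟩ := exists_ab ht
  let X : Matrix.SpecialLinearGroup (Fin 2) F := mk4 a b (b - t) (-1 - a) hab
  let Z : Matrix.SpecialLinearGroup (Fin 2) F := mk4 0 1 (-1) 0 (by ring)
  have hX : tr X = -1 := by simp [tr, X]
  have hZ : tr Z = 0 := by simp [tr, Z]
  have hY : tr (X⁻¹ * Z) = t := by
    simp only [tr, mul_00, mul_11, inv_00, inv_01, inv_10, inv_11, X, Z, mk4_00, mk4_01, mk4_10, mk4_11]
    ring
  have hX3 : X ^ 3 = 1 := by
    apply eq_of_coe
    rw [Matrix.SpecialLinearGroup.coe_pow]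
    have c := cayley_sl2 X
    rw [hX] at c
    rw [pow_succ, pow_two, c, sub_mul, smul_mul_assoc, c]
    simp
  set Y := X⁻¹ * Z with hYdef
  have hY5 : Y ^ 5 = 1 := by
    apply eq_of_coe
    rw [Matrix.SpecialLinearGroup.coe_pow]
    have c := cayley_sl2 Y
    rw [hY] at c
    have ht2 : t ^ 2 = 1 - t := by linear_combination ht
    have c3 : (Y : Matrix (Fin 2) (Fin 2) F) ^ 5 = (Y : Matrix (Fin 2) (Fin 2) F) * ((Y : Matrix (Fin 2) (Fin 2) F) * Y) * ((Y : Matrix (Fin 2) (Fin 2) F) * Y) := by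
      simp only [pow_succ, pow_zero, one_mul, mul_assoc]
    rw [c3, c]
    have c4 : (Y : Matrix (Fin 2) (Fin 2) F) * (t • (Y : Matrix (Fin 2) (Fin 2) F) - 1) = (t ^ 2 - 1) • (Y : Matrix (Fin 2) (Fin 2) F) - t • 1 := by
      rw [mul_sub, mul_smul_comm, c, mul_one]
      module
    rw [c4, sub_mul, mul_sub, smul_mul_assoc, mul_smul_comm, c]
    simp only [smul_mul_assoc, one_mul, mul_one]
    have h1 : (t ^ 4 - 3 * t ^ 2 + 1) = 0 := by
      linear_combination (t ^ 2 - t - 1) * ht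
    have h3 : (t ^ 3 - 2 * t) = -1 := by
      linear_combination (t - 1) * ht
    calc _ = (t ^ 4 - 3 * t ^ 2 + 1) • (Y : Matrix (Fin 2) (Fin 2) F) - (t ^ 3 - 2 * t) • (1 : Matrix (Fin 2) (Fin 2) F) := by module
      _ = 1 := by rw [h1, h3]; simp
  have hXY : X * Y = Z := by rw [hYdef]; group
  let π : Matrix.SpecialLinearGroup (Fin 2) F →* Matrix.ProjectiveSpecialLinearGroup (Fin 2) F :=
    QuotientGroup.mk' (Subgroup.center (Matrix.SpecialLinearGroup (Fin 2) F))
  refine ⟨_, Tri.alt5_of_rel (x := π X) (y := π Y) ?_ ?_ ?_ ?_⟩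
  · rw [← map_pow, hX3, map_one]
  · rw [← map_pow, hY5, map_one]
  · rw [← map_mul, hXY, ← map_pow, pow_two, mul_self_eq_neg_one_of_tr_eq_zero hZ]
    exact psl2_mk_eq_one_iff.2 (Or.inr rfl)
  · intro h
    have h' : X = 1 ∨ X = -1 := psl2_mk_eq_one_iff.1 h
    have h01 : X 0 1 = 0 := by rcases h' with h' | h' <;> rw [h'] <;> simp
    have h10 : X 1 0 = 0 := by rcases h' with h' | h' <;> rw [h'] <;> simp
    have hb : b = 0 := h01
    have hbt : b - t = 0 := h10
    have ht0 : t = 0 := by rw [hb] at hbt; linear_combination -hbt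
    rw [ht0] at ht
    simp at ht

end Cfsg.Agent.H14.PSL2Sub
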