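import Cfsg.Agent.H14.Klein
import Cfsg.Agent.S1012
import Cfsg.Agent.H80.Order12

/-! Normalizers of Klein four-subgroups in `PSL₂(q)`, `q` odd; `A₄` and `S₄` in `PSL₂(q)`. -/

set_option autoImplicit false
set_option linter.unusedSectionVars false

namespace Cfsg.Agent.H14.Klein

section general

variable {G : Type*} [Group G] [Finite G]

theorem perm3_pow (σ : Equiv.Perm (Fin 3)) : σ ^ 2 = 1 ∨ σ ^ 3 = 1 := by
  revert σ; decide

theorem perm3_fix (σ : Equiv.Perm (Fin 3)) (h : σ ^ 3 = 1) (i : Fin 3) (hi : σ i = i) : σ = 1 := by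
  revert σ i; decide

theorem card_nonid {V : Subgroup G} (hV : IsKleinFour V) : Nat.card {v : V // v ≠ 1} = 3 := by
  classical
  have h4 : Nat.card V = 4 := hV.card_four
  have : Nat.card {v : V // v ≠ 1} = Nat.card V - 1 := by
    have := Fintype.ofFinite V
    rw [Nat.card_eq_fintype_card, Nat.card_eq_fintype_card]
    rw [Fintype.card_subtype_compl]
    simp
  rw [this, h4]

theorem permT_pow {T : Type*} (hT : Nat.card T = 3) (σ : Equiv.Perm T) : σ ^ 2 = 1 ∨ σ ^ 3 = 1 := by
  have : Finite T := Nat.finite_of_card_ne_zero (by omega)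
  let e : T ≃ Fin 3 := Finite.equivFinOfCardEq hT
  rcases perm3_pow (e.permCongrHom σ) with h | h
  · left
    rw [← map_pow, MulEquiv.map_eq_one_iff] at h
    exact h
  · right
    rw [← map_pow, MulEquiv.map_eq_one_iff] at h
    exact h

theorem permT_fix {T : Type*} (hT : Nat.card T = 3) (σ : Equiv.Perm T) (h : σ ^ 3 = 1) (i : T) (hi : σ i = i) :
    σ = 1 := by
  have : Finite T := Nat.finite_of_card_ne_zero (by omega)
  let e : T ≃ Fin 3 := Finite.equivFinOfCardEq hT
  have h1 := perm3_fix (e.permCongrHom σ) (by rw [← map_pow, h, map_one]) (e i) (by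
    simp [Equiv.permCongrHom, hi])
  rwa [MulEquiv.map_eq_one_iff] at h1

theorem permHom_eq_one_imp {V : Subgroup G} (hC : Subgroup.centralizer (V : Set G) ≤ V)
    {g : Subgroup.normalizer (V : Set G)} (h : permHom V g = 1) : g.1 ∈ V :=
  hC ((mem_ker_permHom V g).1 h)

theorem permHom_fix {V : Subgroup G} {g h : Subgroup.normalizer (V : Set G)} (hh : h.1 ∈ V) (hh1 : h.1 ≠ 1)
    (hgh : g * h = h * g) : permHom V g ⟨⟨h.1, hh⟩, fun e => hh1 (congrArg Subtype.val e)⟩ = ⟨⟨h.1, hh⟩, fun e => hh1 (congrArg Subtype.val e)⟩ := by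
  apply Subtype.ext
  apply Subtype.ext
  rw [permHom_apply]
  change g.1 * h.1 * g.1⁻¹ = h.1
  have := congrArg Subtype.val hgh
  change g.1 * h.1 = h.1 * g.1 at this
  rw [this]; group

theorem no_order_six {V : Subgroup G} (hV : IsKleinFour V)
    (hC : Subgroup.centralizer (V : Set G) ≤ V) (g : Subgroup.normalizer (V : Set G)) : orderOf g ≠ 6 := by
  intro hg
  have hT := card_nonid hV
  have key : ∀ x : Subgroup.normalizer (V : Set G), x.1 ∈ V → x ^ 2 = 1 := by
    intro x hx
    apply Subtype.ext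
    rw [Subgroup.coe_pow, pow_two]
    exact mul_self_of_klein hV hx
  have hg2 : g.1 ^ 2 ∈ V → False := by
    intro h
    have h1 : (g ^ 2) ^ 2 = 1 := key (g ^ 2) h
    rw [← pow_mul] at h1
    have := orderOf_dvd_of_pow_eq_one h1
    rw [hg] at this
    omega
  rcases permT_pow hT (permHom V g) with h | h
  · rw [← map_pow] at h
    exact hg2 (permHom_eq_one_imp hC h)
  · rw [← map_pow] at h
    have h3 : (g ^ 3).1 ∈ V := permHom_eq_one_imp hC h
    have h31 : (g ^ 3).1 ≠ 1 := by
      intro h4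
      have h5 : g ^ 3 = 1 := Subtype.ext h4
      have := orderOf_dvd_of_pow_eq_one h5
      rw [hg] at this
      omega
    have h6 := permHom_fix (g := g ^ 2) h3 h31 (by rw [← pow_add, ← pow_add])
    have h7 := permT_fix hT (permHom V (g ^ 2)) (by
      rw [← map_pow, ← pow_mul]
      have : g ^ (2 * 3) = 1 := by
        have := pow_orderOf_eq_one g
        rwa [hg] at this
      rw [this, map_one]) _ h6
    exact hg2 (permHom_eq_one_imp hC h7)

theorem normalizer_iso_S4 {V : Subgroup G} (hV : IsKleinFour V)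
    (hC : Subgroup.centralizer (V : Set G) ≤ V) (h : Nat.card (Subgroup.normalizer (V : Set G)) = 24) :
    Nonempty (Subgroup.normalizer (V : Set G) ≃* Equiv.Perm (Fin 4)) :=
  S1012.result h (no_order_six hV hC)

theorem normalizer_iso_A4 {V : Subgroup G} (hV : IsKleinFour V)
    (hC : Subgroup.centralizer (V : Set G) ≤ V) (h : Nat.card (Subgroup.normalizer (V : Set G)) = 12) :
    Nonempty (Subgroup.normalizer (V : Set G) ≃* alternatingGroup (Fin 4)) := by
  apply H80.order_twelve h
  intro z hz hzc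
  have hT := card_nonid hV
  have h1 : z.1 ∈ V := by
    apply hC
    rw [Subgroup.mem_centralizer_iff]
    intro x hx
    exact congrArg Subtype.val (Subgroup.mem_center_iff.1 hzc ⟨x, Subgroup.le_normalizer hx⟩)
  have h2 : z.1 ≠ 1 := by
    intro h3
    have : z = 1 := Subtype.ext h3
    rw [this, orderOf_one] at hz
    omega
  have : Fact (Nat.Prime 3) := ⟨by norm_num⟩
  obtain ⟨t, ht⟩ := exists_prime_orderOf_dvd_card' (G := Subgroup.normalizer (V : Set G)) 3 (by rw [h]; norm_num)
  have h6 := permHom_fix (g := t) h1 h2 (Subgroup.mem_center_iff.1 hzc t)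
  have h7 := permT_fix hT (permHom V t) (by
    rw [← map_pow]
    have : t ^ 3 = 1 := by
      have := pow_orderOf_eq_one t
      rwa [ht] at this
    rw [this, map_one]) _ h6
  have h8 : t.1 ∈ V := permHom_eq_one_imp hC h7
  have h9 : t ^ 2 = 1 := by
    apply Subtype.ext
    rw [Subgroup.coe_pow, pow_two]
    exact mul_self_of_klein hV h8
  have := orderOf_dvd_of_pow_eq_one h9
  rw [ht] at this
  omega

theorem A4_of_S4 {H : Type*} [Group H] (K : Subgroup H) (e : K ≃* Equiv.Perm (Fin 4)) :
    ∃ L : Subgroup H, Nonempty (L ≃* alternatingGroup (Fin 4)) := by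
  let f : alternatingGroup (Fin 4) →* H := K.subtype.comp (e.symm.toMonoidHom.comp (alternatingGroup (Fin 4)).subtype)
  have hf : Function.Injective f :=
    Subtype.val_injective.comp (e.symm.injective.comp Subtype.val_injective)
  exact ⟨f.range, ⟨(MonoidHom.ofInjective hf).symm⟩⟩

end general

section PSL

open Cfsg.Agent.H41 Cfsg.Agent.H14.SL2Four

variable {F : Type*} [Field F] [Finite F]

theorem scalar_of_commute (h2 : (2 : F) ≠ 0) {a b c : Matrix.SpecialLinearGroup (Fin 2) F} (ha : tr a = 0)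
    (hab : b * a * b⁻¹ = a⁻¹) (h1 : c * a = a * c) (h3 : c * b = b * c) : c = 1 ∨ c = -1 := by
  obtain ⟨x, y, hxy⟩ := exists_span_of_commute (sq_ne_four h2 ha) h1
  have hba : b * a = -(a * b) := by
    rw [mul_inv_eq_iff_eq_mul, inv_eq_neg ha] at hab
    rw [hab, neg_mul]
  have m1 : (c : Matrix (Fin 2) (Fin 2) F) * (b : Matrix (Fin 2) (Fin 2) F) = (b : Matrix (Fin 2) (Fin 2) F) * (c : Matrix (Fin 2) (Fin 2) F) := by
    have := congrArg (fun M : Matrix.SpecialLinearGroup (Fin 2) F => (M : Matrix (Fin 2) (Fin 2) F)) h3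
    simpa using this
  have m2 : (b : Matrix (Fin 2) (Fin 2) F) * (a : Matrix (Fin 2) (Fin 2) F) = -((a : Matrix (Fin 2) (Fin 2) F) * (b : Matrix (Fin 2) (Fin 2) F)) := by
    have := congrArg (fun M : Matrix.SpecialLinearGroup (Fin 2) F => (M : Matrix (Fin 2) (Fin 2) F)) hba
    simpa using this
  have hy : y = 0 := by
    rw [hxy, add_mul, mul_add, smul_mul_assoc, smul_mul_assoc, mul_smul_comm, mul_smul_comm, one_mul, mul_one,
      m2, add_right_inj] at m1
    have m3 : (2 * y) • ((a : Matrix (Fin 2) (Fin 2) F) * (b : Matrix (Fin 2) (Fin 2) F)) = 0 := by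
      have : (2 * y) • ((a : Matrix (Fin 2) (Fin 2) F) * (b : Matrix (Fin 2) (Fin 2) F)) =
        y • ((a : Matrix (Fin 2) (Fin 2) F) * (b : Matrix (Fin 2) (Fin 2) F)) - y • (-((a : Matrix (Fin 2) (Fin 2) F) * (b : Matrix (Fin 2) (Fin 2) F))) := by
        module
      rw [this, m1, sub_self]
    rcases smul_eq_zero.1 m3 with h | h
    · rcases mul_eq_zero.1 h with h | h
      · exact absurd h h2
      · exact h
    · exfalso
      have hdet : Matrix.det ((a : Matrix (Fin 2) (Fin 2) F) * (b : Matrix (Fin 2) (Fin 2) F)) = 1 := by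
        rw [Matrix.det_mul, a.2, b.2, mul_one]
      rw [h, Matrix.det_zero] at hdet
      exact zero_ne_one hdet
  have h01 : c 0 1 = 0 := by
    have := congrArg (fun M => M 0 1) hxy
    simpa [hy] using this
  have h10 : c 1 0 = 0 := by
    have := congrArg (fun M => M 1 0) hxy
    simpa [hy] using this
  have h00 : c 0 0 = x := by
    have := congrArg (fun M => M 0 0) hxy
    simpa [hy] using this
  have h11 : c 1 1 = x := by
    have := congrArg (fun M => M 1 1) hxy
    simpa [hy] using this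
  have hdet := det_eq c
  rw [h01, h00, h11] at hdet
  have : (x - 1) * (x + 1) = 0 := by linear_combination hdet
  rcases mul_eq_zero.1 this with h | h
  · left
    apply sl2_ext <;> simp [h01, h10, h00, h11, sub_eq_zero.1 h]
  · right
    have : x = -1 := by linear_combination h
    apply sl2_ext <;> simp [h01, h10, h00, h11, this]

theorem exists_pair {G : Type*} [Group G] {V : Subgroup G} (hV : IsKleinFour V) :
    ∃ x ∈ V, ∃ y ∈ V, Pair x y := by
  have h6 := card_pairs_of_klein hV
  have : Nonempty {p : V × V // p.1 ≠ 1 ∧ p.2 ≠ 1 ∧ p.1 ≠ p.2} := by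
    by_contra h
    rw [not_nonempty_iff] at h
    rw [Nat.card_of_isEmpty] at h6
    omega
  obtain ⟨⟨⟨x, hx⟩, ⟨y, hy⟩⟩, h1, h2, h3⟩ := this
  exact ⟨x, hx, y, hy, pair_of_klein hV hx hy (fun h => h1 (Subtype.ext h)) (fun h => h2 (Subtype.ext h))
    (fun h => h3 (Subtype.ext h))⟩

theorem centralizer_le (h2 : (2 : F) ≠ 0) {V : Subgroup (Matrix.ProjectiveSpecialLinearGroup (Fin 2) F)}
    (hV : IsKleinFour V) : Subgroup.centralizer (V : Set (Matrix.ProjectiveSpecialLinearGroup (Fin 2) F)) ≤ V := by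
  obtain ⟨x, hx, y, hy, hp⟩ := exists_pair hV
  intro g hg
  rw [Subgroup.mem_centralizer_iff] at hg
  have hgx := hg x hx
  have hgy := hg y hy
  induction x using QuotientGroup.induction_on with
  | H a =>
  induction y using QuotientGroup.induction_on with
  | H b =>
  induction g using QuotientGroup.induction_on with
  | H c =>
  obtain ⟨ha, hab⟩ := (pair_iff h2 a b).1 hp
  have hb : tr b = 0 := tr_eq_zero_of_inverts (sq_ne_four h2 ha) hab
  have hba : b * a = -(a * b) := by
    have := hab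
    rw [mul_inv_eq_iff_eq_mul, inv_eq_neg ha] at this
    rw [this, neg_mul]
  have e1 : c * a = a * c ∨ c * a = -(a * c) := by
    have : (QuotientGroup.mk (c * a) : Matrix.ProjectiveSpecialLinearGroup (Fin 2) F) = QuotientGroup.mk (a * c) := hgx.symm
    exact psl2_mk_eq_iff.1 this
  have e2 : c * b = b * c ∨ c * b = -(b * c) := by
    have : (QuotientGroup.mk (c * b) : Matrix.ProjectiveSpecialLinearGroup (Fin 2) F) = QuotientGroup.mk (b * c) := hgy.symm
    exact psl2_mk_eq_iff.1 this
  have haa := mul_self_eq_neg_one_of_tr_eq_zero ha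
  have hbb := mul_self_eq_neg_one_of_tr_eq_zero hb
  rcases e1 with e1 | e1 <;> rcases e2 with e2 | e2
  · have h : (QuotientGroup.mk c : Matrix.ProjectiveSpecialLinearGroup (Fin 2) F) = 1 :=
      psl2_mk_eq_one_iff.2 (scalar_of_commute h2 ha hab e1 e2)
    rw [h]; exact V.one_mem
  · -- multiply by a
    have h : (QuotientGroup.mk (c * a) : Matrix.ProjectiveSpecialLinearGroup (Fin 2) F) = 1 := by
      apply psl2_mk_eq_one_iff.2
      apply scalar_of_commute h2 ha hab
      · rw [e1, mul_assoc, e1]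
      · calc c * a * b = c * (a * b) := mul_assoc _ _ _
          _ = c * (-(b * a)) := by rw [hba, neg_neg]
          _ = -(c * b * a) := by rw [mul_neg, mul_assoc]
          _ = b * (c * a) := by rw [e2, neg_mul, neg_neg, mul_assoc]
    have h' : (QuotientGroup.mk c : Matrix.ProjectiveSpecialLinearGroup (Fin 2) F) * QuotientGroup.mk a = 1 := h
    rw [eq_inv_of_mul_eq_one_left h']
    exact V.inv_mem hx
  · have h : (QuotientGroup.mk (c * b) : Matrix.ProjectiveSpecialLinearGroup (Fin 2) F) = 1 := by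
      apply psl2_mk_eq_one_iff.2
      apply scalar_of_commute h2 ha hab
      · calc c * b * a = c * (b * a) := mul_assoc _ _ _
          _ = -(c * a * b) := by rw [hba, mul_neg, mul_assoc]
          _ = a * (c * b) := by rw [e1, neg_mul, neg_neg, mul_assoc]
      · rw [e2, mul_assoc, e2]
    have h' : (QuotientGroup.mk c : Matrix.ProjectiveSpecialLinearGroup (Fin 2) F) * QuotientGroup.mk b = 1 := h
    rw [eq_inv_of_mul_eq_one_left h']
    exact V.inv_mem hy
  · have h : (QuotientGroup.mk (c * (a * b)) : Matrix.ProjectiveSpecialLinearGroup (Fin 2) F) = 1 := by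
      apply psl2_mk_eq_one_iff.2
      apply scalar_of_commute h2 ha hab
      · calc c * (a * b) * a = c * (a * (b * a)) := by simp only [mul_assoc]
          _ = -(c * a * (a * b)) := by rw [hba]; simp only [mul_neg, mul_assoc]
          _ = a * (c * (a * b)) := by rw [e1]; simp only [neg_mul, neg_neg, mul_assoc]
      · calc c * (a * b) * b = c * ((a * b) * b) := mul_assoc _ _ _
          _ = c * (-(b * a) * b) := by rw [hba, neg_neg]
          _ = -(c * b * (a * b)) := by simp only [neg_mul, mul_neg, mul_assoc]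
          _ = b * (c * (a * b)) := by rw [e2]; simp only [neg_mul, neg_neg, mul_assoc]
    have h' : (QuotientGroup.mk c : Matrix.ProjectiveSpecialLinearGroup (Fin 2) F) * (QuotientGroup.mk a * QuotientGroup.mk b) = 1 := h
    rw [eq_inv_of_mul_eq_one_left h']
    exact V.inv_mem (V.mul_mem hx hy)

theorem finite_psl : Finite (Matrix.ProjectiveSpecialLinearGroup (Fin 2) F) :=
  Finite.of_surjective _ (QuotientGroup.mk'_surjective (Subgroup.center (Matrix.SpecialLinearGroup (Fin 2) F)))

theorem twelve_mul (h2 : (2 : F) ≠ 0) : 12 * Nat.card {V : Subgroup (Matrix.ProjectiveSpecialLinearGroup (Fin 2) F) // IsKleinFour V} =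
    Nat.card (Matrix.ProjectiveSpecialLinearGroup (Fin 2) F) := by
  have h1 := card_klein (F := F) h2
  have h3 : Nat.card (Matrix.SpecialLinearGroup (Fin 2) F) =
      Nat.card (Matrix.ProjectiveSpecialLinearGroup (Fin 2) F) * Nat.card (Subgroup.center (Matrix.SpecialLinearGroup (Fin 2) F)) :=
    Subgroup.card_eq_card_quotient_mul_card_subgroup _
  rw [H81.card_center_sl2 h2, ← h1] at h3
  omega

theorem isKleinFour_map {G : Type*} [Group G] {V : Subgroup G} (hV : IsKleinFour V) (g : G) :
    IsKleinFour (V.map (MulAut.conj g).toMonoidHom) := by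
  have e : V ≃* V.map (MulAut.conj g).toMonoidHom :=
    V.equivMapOfInjective _ (MulAut.conj g).injective
  refine ⟨by rw [← Nat.card_congr e.toEquiv]; exact hV.card_four, ?_⟩
  rw [← Monoid.exponent_eq_of_mulEquiv e]
  exact hV.exponent_two

/-- The number of conjugates of a Klein four-group is at most the number of Klein four-groups. -/
theorem card_conj_le (V : Subgroup (Matrix.ProjectiveSpecialLinearGroup (Fin 2) F)) (hV : IsKleinFour V) :
    Nat.card {W : Subgroup (Matrix.ProjectiveSpecialLinearGroup (Fin 2) F) // ∃ g, W = V.map (MulAut.conj g).toMonoidHom} ≤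
      Nat.card {V : Subgroup (Matrix.ProjectiveSpecialLinearGroup (Fin 2) F) // IsKleinFour V} := by
  have := finite_psl (F := F)
  refine Nat.card_le_card_of_injective
    (fun W => (⟨W.1, by obtain ⟨g, hg⟩ := W.2; rw [hg]; exact isKleinFour_map hV g⟩ :
      {V : Subgroup (Matrix.ProjectiveSpecialLinearGroup (Fin 2) F) // IsKleinFour V})) ?_
  intro W W' h
  have h' : W.1 = W'.1 := congrArg (Subtype.val (p := fun V : Subgroup (Matrix.ProjectiveSpecialLinearGroup (Fin 2) F) => IsKleinFour V)) h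
  exact Subtype.ext h'

theorem exists_klein (h2 : (2 : F) ≠ 0) : ∃ V : Subgroup (Matrix.ProjectiveSpecialLinearGroup (Fin 2) F), IsKleinFour V := by
  have := finite_psl (F := F)
  have h := twelve_mul (F := F) h2
  have hpos : 0 < Nat.card (Matrix.ProjectiveSpecialLinearGroup (Fin 2) F) := Nat.card_pos
  by_contra hcon
  have : IsEmpty {V : Subgroup (Matrix.ProjectiveSpecialLinearGroup (Fin 2) F) // IsKleinFour V} :=
    ⟨fun V => hcon ⟨V.1, V.2⟩⟩
  rw [Nat.card_of_isEmpty] at h
  omega

theorem card_normalizer_24 (h2 : (2 : F) ≠ 0) (h8 : 8 ∣ Nat.card (Matrix.ProjectiveSpecialLinearGroup (Fin 2) F))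
    {V : Subgroup (Matrix.ProjectiveSpecialLinearGroup (Fin 2) F)} (hV : IsKleinFour V) :
    Nat.card (Subgroup.normalizer (V : Set (Matrix.ProjectiveSpecialLinearGroup (Fin 2) F))) = 24 := by
  have := finite_psl (F := F)
  have : Fact (Nat.Prime 2) := ⟨Nat.prime_two⟩
  have h1 := card_normalizer_dvd hV (centralizer_le h2 hV)
  have h3 : 2 ^ (2 + 1) ∣ Nat.card (Subgroup.normalizer (V : Set (Matrix.ProjectiveSpecialLinearGroup (Fin 2) F))) :=
    Sylow.prime_pow_dvd_card_normalizer h8 hV.card_four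
  have h4 := card_conj_mul V
  have h5 := card_conj_le V hV
  have h6 := twelve_mul (F := F) h2
  have hpos : 0 < Nat.card (Matrix.ProjectiveSpecialLinearGroup (Fin 2) F) := Nat.card_pos
  obtain ⟨c, hc⟩ := h3
  rw [hc] at h1 h4 ⊢
  obtain ⟨d, hd⟩ := h1
  have hcd : c * d = 3 := by
    have : 2 ^ (2 + 1) * c * d = 8 * (c * d) := by ring
    omega
  have hc3 : c ∣ 3 := ⟨d, hcd.symm⟩
  rcases (Nat.dvd_prime Nat.prime_three).1 hc3 with h | h
  · exfalso
    rw [h, mul_one] at h4
    have h4' : Nat.card {W : Subgroup (Matrix.ProjectiveSpecialLinearGroup (Fin 2) F) // ∃ g, W = V.map (MulAut.conj g).toMonoidHom} * 8 =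
      Nat.card (Matrix.ProjectiveSpecialLinearGroup (Fin 2) F) := h4
    omega
  · rw [h]
    rfl

theorem isConj_of_sylow (h4 : 4 ∣ Nat.card (Matrix.ProjectiveSpecialLinearGroup (Fin 2) F))
    (h8 : ¬ 8 ∣ Nat.card (Matrix.ProjectiveSpecialLinearGroup (Fin 2) F))
    {V W : Subgroup (Matrix.ProjectiveSpecialLinearGroup (Fin 2) F)} (hV : IsKleinFour V) (hW : IsKleinFour W) :
    ∃ g, W = V.map (MulAut.conj g).toMonoidHom := by
  have := finite_psl (F := F)
  have : Fact (Nat.Prime 2) := ⟨Nat.prime_two⟩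
  have hpos : Nat.card (Matrix.ProjectiveSpecialLinearGroup (Fin 2) F) ≠ 0 := Nat.card_pos.ne'
  have hf : (Nat.card (Matrix.ProjectiveSpecialLinearGroup (Fin 2) F)).factorization 2 = 2 := by
    apply le_antisymm
    · by_contra h
      apply h8
      exact (Nat.prime_two.pow_dvd_iff_le_factorization (k := 3) hpos).2 (by omega)
    · exact (Nat.prime_two.pow_dvd_iff_le_factorization (k := 2) hpos).1 h4
  obtain ⟨g, hg⟩ := MulAction.exists_smul_eq (Matrix.ProjectiveSpecialLinearGroup (Fin 2) F)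
    (Sylow.ofCard V (by rw [hf]; exact hV.card_four)) (Sylow.ofCard W (by rw [hf]; exact hW.card_four))
  refine ⟨g, ?_⟩
  have h1 := congrArg (fun P : Sylow 2 (Matrix.ProjectiveSpecialLinearGroup (Fin 2) F) => P.toSubgroup) hg
  exact h1.symm

theorem card_normalizer_12 (h2 : (2 : F) ≠ 0) (h4 : 4 ∣ Nat.card (Matrix.ProjectiveSpecialLinearGroup (Fin 2) F))
    (h8 : ¬ 8 ∣ Nat.card (Matrix.ProjectiveSpecialLinearGroup (Fin 2) F))
    {V : Subgroup (Matrix.ProjectiveSpecialLinearGroup (Fin 2) F)} (hV : IsKleinFour V) :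
    Nat.card (Subgroup.normalizer (V : Set (Matrix.ProjectiveSpecialLinearGroup (Fin 2) F))) = 12 := by
  have := finite_psl (F := F)
  have h5 := card_conj_mul V
  have h6 := twelve_mul (F := F) h2
  have hpos : 0 < Nat.card (Matrix.ProjectiveSpecialLinearGroup (Fin 2) F) := Nat.card_pos
  have h7 : Nat.card {W : Subgroup (Matrix.ProjectiveSpecialLinearGroup (Fin 2) F) // ∃ g, W = V.map (MulAut.conj g).toMonoidHom} =
      Nat.card {V : Subgroup (Matrix.ProjectiveSpecialLinearGroup (Fin 2) F) // IsKleinFour V} := by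
    refine Nat.card_congr (Equiv.subtypeEquivRight fun W => ?_)
    constructor
    · rintro ⟨g, rfl⟩
      exact isKleinFour_map hV g
    · intro hW
      exact isConj_of_sylow h4 h8 hV hW
  rw [h7] at h5
  have h9 : 0 < Nat.card {V : Subgroup (Matrix.ProjectiveSpecialLinearGroup (Fin 2) F) // IsKleinFour V} := by omega
  rw [← h6, mul_comm 12] at h5
  exact Nat.eq_of_mul_eq_mul_left h9 h5

end PSL

section arith

variable {F : Type*} [Field F] [Fintype F]

theorem dvd_eight {q : ℕ} (hF : Fintype.card F = q) (h : q % 8 = 1 ∨ q % 8 = 7) :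
    8 ∣ Nat.card (Matrix.ProjectiveSpecialLinearGroup (Fin 2) F) := by
  subst hF
  have hodd : Odd (Fintype.card F) := by rw [Nat.odd_iff]; omega
  have h1 := SubField.card_PSL2_odd hodd
  have h3 : 16 ∣ (Fintype.card F - 1) * (Fintype.card F + 1) := by
    rcases h with h | h
    · obtain ⟨k, hk⟩ : ∃ k, Fintype.card F = 8 * k + 1 := ⟨Fintype.card F / 8, by omega⟩
      rw [hk, Nat.add_sub_cancel]
      exact ⟨k * (4 * k + 1), by ring⟩
    · obtain ⟨k, hk⟩ : ∃ k, Fintype.card F = 8 * k + 7 := ⟨Fintype.card F / 8, by omega⟩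
      rw [hk, show 8 * k + 7 - 1 = 8 * k + 6 by omega]
      exact ⟨(4 * k + 3) * (k + 1), by ring⟩
  obtain ⟨c, hc⟩ := h3
  rw [hc] at h1
  exact ⟨Fintype.card F * c, by
    have : Fintype.card F * (16 * c) = 2 * (8 * (Fintype.card F * c)) := by ring
    omega⟩

theorem dvd_four {q : ℕ} (hF : Fintype.card F = q) (h : q % 8 = 3 ∨ q % 8 = 5) :
    4 ∣ Nat.card (Matrix.ProjectiveSpecialLinearGroup (Fin 2) F) ∧
    ¬ 8 ∣ Nat.card (Matrix.ProjectiveSpecialLinearGroup (Fin 2) F) := by
  subst hF
  have hodd : Odd (Fintype.card F) := by rw [Nat.odd_iff]; omega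
  have h1 := SubField.card_PSL2_odd hodd
  have h3 : ∃ c, (Fintype.card F - 1) * (Fintype.card F + 1) = 16 * c + 8 := by
    rcases h with h | h
    · obtain ⟨k, hk⟩ : ∃ k, Fintype.card F = 8 * k + 3 := ⟨Fintype.card F / 8, by omega⟩
      rw [hk, show 8 * k + 3 - 1 = 8 * k + 2 by omega]
      exact ⟨k * (4 * k + 3), by ring⟩
    · obtain ⟨k, hk⟩ : ∃ k, Fintype.card F = 8 * k + 5 := ⟨Fintype.card F / 8, by omega⟩
      rw [hk, show 8 * k + 5 - 1 = 8 * k + 4 by omega]
      exact ⟨(k + 1) * (4 * k + 1), by ring⟩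
  obtain ⟨c, hc⟩ := h3
  rw [hc] at h1
  obtain ⟨r, hr⟩ := hodd
  have e : Nat.card (Matrix.ProjectiveSpecialLinearGroup (Fin 2) F) = 8 * (Fintype.card F * c + r) + 4 := by
    have : Fintype.card F * (16 * c + 8) = 2 * (8 * (Fintype.card F * c) + 4 * Fintype.card F) := by ring
    omega
  constructor
  · omega
  · omega

end arith

end Cfsg.Agent.H14.Klein
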