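import Cfsg.Agent.H14.TwoInd
import Cfsg.Agent.H80.Index2

/-! Perfect groups in which the centralizer of an involution is dihedral of order 8. -/

set_option autoImplicit false
set_option linter.unusedSectionVars false

namespace Cfsg.Agent.H14.D8Cent

open scoped ComplexConjugate
open DihedralGroup
open Cfsg Cfsg.Agent.CharBase Cfsg.Agent.Char

universe u

/-- a function on the dihedral group of order 8. -/
noncomputable def df : DihedralGroup 4 → ℂ
  | .r i => Complex.I ^ i.val
  | .sr _ => 0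

theorem df_r_add (i j : ZMod 4) : df (r (i + j)) = df (r i) * df (r j) := by
  change Complex.I ^ (i + j).val = Complex.I ^ i.val * Complex.I ^ j.val
  rw [← pow_add, ZMod.val_add]
  conv_rhs => rw [← Nat.div_add_mod (i.val + j.val) 4, pow_add, pow_mul, Complex.I_pow_four, one_pow, one_mul]

theorem df_mul_conj (i : ZMod 4) : df (r i) * conj (df (r i)) = 1 := by
  change Complex.I ^ i.val * conj (Complex.I ^ i.val) = 1
  rw [map_pow, ← mul_pow, Complex.conj_I]
  simp

theorem df_neg (i : ZMod 4) : df (r (-i)) = conj (df (r i)) := by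
  have h1 := df_r_add i (-i)
  have h0 : df (r 0) = 1 := by change Complex.I ^ (0 : ZMod 4).val = 1; simp
  rw [add_neg_cancel, h0] at h1
  have h2 := df_mul_conj i
  have h3 : df (r i) ≠ 0 := left_ne_zero_of_mul_eq_one h2
  apply mul_left_cancel₀ h3
  rw [h2, ← h1]

variable {G : Type u} [Group G] {t : G}

/-- the cyclic subgroup of order four of the centralizer. -/
def cyc (e : Subgroup.centralizer ({t} : Set G) ≃* DihedralGroup 4) : Subgroup G where
  carrier := {y | ∃ h : y ∈ Subgroup.centralizer ({t} : Set G), ∃ i, e ⟨y, h⟩ = r i}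
  one_mem' := ⟨Subgroup.one_mem _, 0, e.map_one⟩
  mul_mem' := by
    rintro x y ⟨hx, i, hi⟩ ⟨hy, j, hj⟩
    refine ⟨Subgroup.mul_mem _ hx hy, i + j, ?_⟩
    have : e (⟨x, hx⟩ * ⟨y, hy⟩) = r (i + j) := by rw [map_mul, hi, hj, r_mul_r]
    exact this
  inv_mem' := by
    rintro x ⟨hx, i, hi⟩
    refine ⟨Subgroup.inv_mem _ hx, -i, ?_⟩
    have : e (⟨x, hx⟩⁻¹) = r (-i) := by rw [map_inv, hi, inv_r]
    exact this

theorem t_mem : t ∈ Subgroup.centralizer ({t} : Set G) := by
  rw [Subgroup.mem_centralizer_singleton_iff]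

theorem d8_central : ∀ d : DihedralGroup 4, (∀ x, x * d = d * x) → d ≠ 1 → d = r 2 := by decide

theorem e_t (ht : orderOf t = 2) (e : Subgroup.centralizer ({t} : Set G) ≃* DihedralGroup 4) :
    e ⟨t, t_mem⟩ = r 2 := by
  apply d8_central
  · intro x
    rw [← e.apply_symm_apply x, ← map_mul, ← map_mul]
    congr 1
    apply Subtype.ext
    exact (Subgroup.mem_centralizer_singleton_iff.1 (e.symm x).2)
  · rw [Ne, EmbeddingLike.map_eq_one_iff]
    intro h
    have h1 : t = 1 := congrArg Subtype.val h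
    rw [h1, orderOf_one] at ht
    omega

theorem d8_r : ∀ i : ZMod 4, r i ≠ (1 : DihedralGroup 4) → r i = (r 2 : DihedralGroup 4) ∨ (r i : DihedralGroup 4) * r i = r 2 := by decide

theorem d8_inv : ∀ i : ZMod 4, (r i : DihedralGroup 4) * r i = 1 → r i = (1 : DihedralGroup 4) ∨ r i = (r 2 : DihedralGroup 4) := by decide

theorem eq_t_of_mem (ht : orderOf t = 2) (e : Subgroup.centralizer ({t} : Set G) ≃* DihedralGroup 4)
    {x : G} (hx : x ∈ cyc e) (h2 : orderOf x = 2) : x = t := by
  obtain ⟨h, i, hi⟩ := hx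
  have h3 : (⟨x, h⟩ : Subgroup.centralizer ({t} : Set G)) * ⟨x, h⟩ = 1 := by
    apply Subtype.ext
    change x * x = 1
    rw [← pow_two, ← h2, pow_orderOf_eq_one]
  have h4 := congrArg e h3
  rw [map_mul, map_one, hi] at h4
  rcases d8_inv i h4 with h5 | h5
  · exfalso
    rw [h5, EmbeddingLike.map_eq_one_iff] at hi
    have : x = 1 := congrArg Subtype.val hi
    rw [this, orderOf_one] at h2
    omega
  · rw [h5, ← e_t ht e] at hi
    exact congrArg Subtype.val (e.injective hi)

/-- conjugating a nontrivial element of the cyclic subgroup into it. -/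
theorem mem_centralizer_of_conj (ht : orderOf t = 2)
    (e : Subgroup.centralizer ({t} : Set G) ≃* DihedralGroup 4)
    {y x : G} (hy : y ∈ cyc e) (hy1 : y ≠ 1) (hx : x⁻¹ * y * x ∈ cyc e) :
    x ∈ Subgroup.centralizer ({t} : Set G) := by
  have hconj : x⁻¹ * t * x ∈ cyc e := by
    obtain ⟨h, i, hi⟩ := hy
    have hne : (r i : DihedralGroup 4) ≠ 1 := by
      rw [← hi, Ne, EmbeddingLike.map_eq_one_iff]
      intro h'
      exact hy1 (congrArg Subtype.val h')
    rcases d8_r i hne with h1 | h1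
    · rw [h1, ← e_t ht e] at hi
      have : y = t := congrArg Subtype.val (e.injective hi)
      rwa [this] at hx
    · rw [← hi, ← map_mul, ← e_t ht e] at h1
      have h2 : y * y = t := congrArg Subtype.val (e.injective h1)
      have : x⁻¹ * t * x = (x⁻¹ * y * x) * (x⁻¹ * y * x) := by rw [← h2]; group
      rw [this]
      exact (cyc e).mul_mem hx hx
  have ho : orderOf (x⁻¹ * t * x) = 2 := by
    have := (MulAut.conj x⁻¹).orderOf_eq t
    rw [← ht, ← this]
    simp
  have h3 := eq_t_of_mem ht e hconj ho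
  rw [Subgroup.mem_centralizer_singleton_iff]
  have : x * (x⁻¹ * t * x) = t * x := by group
  rw [h3] at this
  exact this

/-- The character data. -/
noncomputable def loc (ht : orderOf t = 2)
    (e : Subgroup.centralizer ({t} : Set G) ≃* DihedralGroup 4) : TI2 G where
  N := Subgroup.centralizer ({t} : Set G)
  C := cyc e
  hCN := fun x hx => hx.1
  s := (e.symm (sr 0) : Subgroup.centralizer ({t} : Set G))
  hs := (e.symm (sr 0)).2
  hsC := by
    rintro x ⟨⟨h1, i, hi⟩, ⟨h2, j, hj⟩⟩
    have h3 : e ((e.symm (sr 0))⁻¹ * ⟨x, h1⟩) = r j := hj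
    rw [map_mul, map_inv, MulEquiv.apply_symm_apply, hi, inv_sr, sr_mul_r] at h3
    cases h3
  hN := by
    intro x hx
    rcases h : e ⟨x, hx⟩ with i | i
    · exact Or.inl ⟨hx, i, h⟩
    · right
      refine ⟨Subgroup.mul_mem _ (Subgroup.inv_mem _ (e.symm (sr 0)).2) hx, i - 0, ?_⟩
      have : e ((e.symm (sr 0))⁻¹ * ⟨x, hx⟩) = r (i - 0) := by
        rw [map_mul, map_inv, MulEquiv.apply_symm_apply, h, inv_sr, sr_mul_sr]
      exact this
  mu := 
    { toFun := fun y => df (e ⟨y, y.2.1⟩)
      map_one' := by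
        have : e (⟨((1 : cyc e) : G), (1 : cyc e).2.1⟩ : Subgroup.centralizer ({t} : Set G)) = r 0 := e.map_one
        rw [this]
        change Complex.I ^ (0 : ZMod 4).val = 1
        simp
      map_mul' := by
        rintro ⟨x, hx, i, hi⟩ ⟨y, hy, j, hj⟩
        have : e (⟨x * y, Subgroup.mul_mem _ hx hy⟩ : Subgroup.centralizer ({t} : Set G)) = r (i + j) := by
          have h : e (⟨x, hx⟩ * ⟨y, hy⟩) = r (i + j) := by rw [map_mul, hi, hj, r_mul_r]
          exact h
        change df (e ⟨x * y, _⟩) = df (e ⟨x, _⟩) * df (e ⟨y, _⟩)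
        rw [this, hi, hj, df_r_add] }
  hmu := by
    rintro ⟨x, hx, i, hi⟩
    change df (e ⟨x, _⟩) * conj (df (e ⟨x, _⟩)) = 1
    rw [hi, df_mul_conj]
  hinv := by
    rintro x ⟨h1, j, hj⟩ ⟨g, hg, i, hi⟩
    have hx : x ∈ Subgroup.centralizer ({t} : Set G) := by
      have := Subgroup.mul_mem _ (e.symm (sr 0)).2 h1
      rwa [mul_inv_cancel_left] at this
    have h2 : e ((e.symm (sr 0))⁻¹ * ⟨x, hx⟩) = r j := hj
    rw [map_mul, map_inv, inv_mul_eq_iff_eq_mul, MulEquiv.apply_symm_apply, sr_mul_r] at h2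
    have h3 : e (⟨x, hx⟩⁻¹ * ⟨g, hg⟩ * ⟨x, hx⟩) = r (-i) := by
      rw [map_mul, map_mul, map_inv, h2, hi, inv_sr, sr_mul_r, sr_mul_sr]
      congr 1; ring
    refine ⟨⟨Subgroup.mul_mem _ (Subgroup.mul_mem _ (Subgroup.inv_mem _ hx) hg) hx, -i, h3⟩, ?_⟩
    change df (e (⟨x⁻¹ * g * x, _⟩ : Subgroup.centralizer ({t} : Set G))) = conj (df (e ⟨g, hg⟩))
    have h4 : e (⟨x⁻¹ * g * x, Subgroup.mul_mem _ (Subgroup.mul_mem _ (Subgroup.inv_mem _ hx) hg) hx⟩ : Subgroup.centralizer ({t} : Set G)) = r (-i) := h3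
    rw [h4, hi, df_neg]
  hTI := by
    intro y hy x hx
    apply mem_centralizer_of_conj ht e y.2 ?_ hx
    intro h
    apply hy
    have : y = 1 := Subtype.ext h
    rw [this, map_one]
  hne := by
    intro h
    have hm : ((e.symm (r 1) : Subgroup.centralizer ({t} : Set G)) : G) ∈ cyc e :=
      ⟨(e.symm (r 1)).2, 1, by simp⟩
    have h1 := DFunLike.congr_fun h (⟨_, hm⟩ : cyc e)
    change df (e (e.symm (r 1))) = 1 at h1
    rw [MulEquiv.apply_symm_apply] at h1
    change Complex.I ^ (1 : ZMod 4).val = 1 at h1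
    have h2 : (1 : ZMod 4).val = 1 := rfl
    rw [h2, pow_one] at h1
    have := congrArg Complex.re h1
    simp at this
  hsq := by
    intro h
    have hm : ((e.symm (r 1) : Subgroup.centralizer ({t} : Set G)) : G) ∈ cyc e :=
      ⟨(e.symm (r 1)).2, 1, by simp⟩
    have h1 := DFunLike.congr_fun h (⟨_, hm⟩ : cyc e)
    change df (e (e.symm (r 1))) * df (e (e.symm (r 1))) = 1 at h1
    rw [MulEquiv.apply_symm_apply] at h1
    change Complex.I ^ (1 : ZMod 4).val * Complex.I ^ (1 : ZMod 4).val = 1 at h1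
    have h2 : (1 : ZMod 4).val = 1 := rfl
    rw [h2, pow_one, Complex.I_mul_I] at h1
    norm_num at h1


section Finite

variable [Finite G]

theorem card_centralizer (e : Subgroup.centralizer ({t} : Set G) ≃* DihedralGroup 4) :
    Nat.card (Subgroup.centralizer ({t} : Set G)) = 8 := by
  rw [Nat.card_congr e.toEquiv, DihedralGroup.nat_card]

theorem card_eq (ht : orderOf t = 2)
    (e : Subgroup.centralizer ({t} : Set G) ≃* DihedralGroup 4) :
    ∃ r : ℕ, Odd r ∧ Nat.card G = 8 * r := by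
  have := Fact.mk Nat.prime_two
  have h8 := card_centralizer e
  have hdvd : 8 ∣ Nat.card G := by rw [← h8]; exact Subgroup.card_subgroup_dvd_card _
  obtain ⟨r, hr⟩ := hdvd
  refine ⟨r, ?_, hr⟩
  by_contra hodd
  rw [Nat.not_odd_iff_even, even_iff_two_dvd] at hodd
  have hp : IsPGroup 2 (Subgroup.centralizer ({t} : Set G)) := by
    apply IsPGroup.of_card (n := 3); rw [h8]; norm_num
  obtain ⟨P, hP⟩ := hp.exists_le_sylow
  have hcardP : 16 ∣ Nat.card (P : Subgroup G) := by
    have h1 : (2 : ℕ) ^ 4 ∣ Nat.card G := by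
      obtain ⟨k, hk⟩ := hodd
      rw [hr, hk]; exact ⟨k, by ring⟩
    have h2 := P.pow_dvd_card_of_pow_dvd_card h1
    exact h2
  have hlt : Subgroup.centralizer ({t} : Set G) < (P : Subgroup G) := by
    refine lt_of_le_of_ne hP ?_
    intro h
    rw [← h, h8] at hcardP
    omega
  obtain ⟨g, -, hgN, hg⟩ := Cfsg.Agent.H80.exists_mem_normalizer_of_lt P.2 hlt
  apply hgN
  have h1 : g * t * g⁻¹ ∈ Subgroup.centralizer ({t} : Set G) :=
    (Subgroup.mem_normalizer_iff.1 hg t).1 t_mem
  have h2 : e ⟨g * t * g⁻¹, h1⟩ = DihedralGroup.r 2 := by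
    apply d8_central
    · intro x
      rw [← e.apply_symm_apply x, ← map_mul, ← map_mul]
      congr 1
      apply Subtype.ext
      have h3 : ((e.symm x : Subgroup.centralizer ({t} : Set G)) : G) ∈ Subgroup.centralizer ({t} : Set G) := (e.symm x).2
      have h4 : g⁻¹ * ((e.symm x : Subgroup.centralizer ({t} : Set G)) : G) * g ∈ Subgroup.centralizer ({t} : Set G) := by
        apply (Subgroup.mem_normalizer_iff.1 hg _).2
        have : g * (g⁻¹ * ((e.symm x : Subgroup.centralizer ({t} : Set G)) : G) * g) * g⁻¹ = ((e.symm x : Subgroup.centralizer ({t} : Set G)) : G) := by group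
        rw [this]; exact h3
      rw [Subgroup.mem_centralizer_singleton_iff] at h4
      change ((e.symm x : Subgroup.centralizer ({t} : Set G)) : G) * (g * t * g⁻¹) = (g * t * g⁻¹) * ((e.symm x : Subgroup.centralizer ({t} : Set G)) : G)
      set w : G := ((e.symm x : Subgroup.centralizer ({t} : Set G)) : G)
      have h5 : w * (g * t * g⁻¹) = g * ((g⁻¹ * w * g) * t) * g⁻¹ := by group
      rw [h5, h4]; group
    · rw [Ne, EmbeddingLike.map_eq_one_iff]
      intro h
      have h3 : g * t * g⁻¹ = 1 := congrArg Subtype.val h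
      rw [conj_eq_one_iff] at h3
      rw [h3, orderOf_one] at ht
      omega
  rw [← e_t ht e] at h2
  have h3 : g * t * g⁻¹ = t := congrArg Subtype.val (e.injective h2)
  rw [Subgroup.mem_centralizer_singleton_iff]
  exact mul_inv_eq_iff_eq_mul.1 h3

theorem card_cyc (e : Subgroup.centralizer ({t} : Set G) ≃* DihedralGroup 4) :
    Nat.card (cyc e) = 4 := by
  have E : cyc e ≃ ZMod 4 :=
    Equiv.symm (Equiv.ofBijective (fun i : ZMod 4 =>
      (⟨(e.symm (r i) : Subgroup.centralizer ({t} : Set G)), (e.symm (r i)).2, i, by simp⟩ : cyc e)) (by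
        constructor
        · intro i j hij
          have h1 := congrArg (fun z : cyc e => (z : G)) hij
          have h2 : e.symm (r i) = e.symm (r j) := Subtype.ext h1
          have h3 := e.symm.injective h2
          injection h3
        · rintro ⟨y, hy, i, hi⟩
          refine ⟨i, ?_⟩
          apply Subtype.ext
          change ((e.symm (r i) : Subgroup.centralizer ({t} : Set G)) : G) = y
          rw [← hi, MulEquiv.symm_apply_apply]))
  rw [Nat.card_congr E, Nat.card_zmod]

theorem no_index_two (hperf : commutator G = ⊤) (H : Subgroup G) : H.index ≠ 2 := by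
  intro h
  have hn : H.Normal := Subgroup.normal_of_index_eq_two h
  have h1 : commutator G ≤ H := by
    have hc : ∀ a b : G ⧸ H, a * b = b * a := by
      have hcard : Nat.card (G ⧸ H) = 2 := h
      have := Fact.mk Nat.prime_two
      have hcyc : IsCyclic (G ⧸ H) := isCyclic_of_prime_card hcard
      exact fun a b => (IsCyclic.commGroup (α := G ⧸ H)).mul_comm a b
    rw [commutator_def, Subgroup.commutator_le]
    intro a _ b _
    rw [← QuotientGroup.eq_one_iff]
    rw [commutatorElement_def]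
    rw [QuotientGroup.mk_mul, QuotientGroup.mk_mul, QuotientGroup.mk_mul, hc (a : G ⧸ H) b,
      QuotientGroup.mk_inv, QuotientGroup.mk_inv]
    group
  rw [hperf, top_le_iff] at h1
  rw [h1, Subgroup.index_top] at h
  omega

/-- All involutions of the centralizer are conjugate. -/
theorem isConj_sr (hperf : commutator G = ⊤) (ht : orderOf t = 2)
    (e : Subgroup.centralizer ({t} : Set G) ≃* DihedralGroup 4) (i : ZMod 4) :
    IsConj t ((e.symm (sr i) : Subgroup.centralizer ({t} : Set G)) : G) := by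
  set x : G := ((e.symm (sr i) : Subgroup.centralizer ({t} : Set G)) : G) with hx
  have hxo : orderOf x = 2 := by
    rw [hx, Subgroup.orderOf_coe, MulEquiv.orderOf_eq]
    apply orderOf_eq_prime
    · rw [pow_two, sr_mul_sr, sub_self]; rfl
    · intro h; cases h
  obtain ⟨r, hr, hcard⟩ := card_eq ht e
  have hidx : (cyc e).index % 4 = 2 := by
    have h1 := (cyc e).card_mul_index
    rw [card_cyc, hcard] at h1
    have h2 : (cyc e).index = 2 * r := by omega
    obtain ⟨k, rfl⟩ := hr
    rw [h2]; omega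
  by_contra hcon
  obtain ⟨H, hH, -⟩ := Cfsg.Agent.H80.thompson_transfer (cyc e) hidx x hxo (by
    intro g hg
    apply hcon
    have h1 : orderOf (g * x * g⁻¹) = 2 := by
      have := (MulAut.conj g).orderOf_eq x
      rw [← hxo, ← this]; rfl
    have h2 := eq_t_of_mem ht e hg h1
    rw [← h2, isConj_comm, isConj_iff]
    exact ⟨g, rfl⟩)
  exact no_index_two hperf H hH

theorem card_pairs (hperf : commutator G = ⊤) (ht : orderOf t = 2)
    (e : Subgroup.centralizer ({t} : Set G) ≃* DihedralGroup 4) {c : G} (hc : c ∈ cyc e) (hc1 : c ≠ 1) :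
    Nat.card {p : G × G // IsConj t p.1 ∧ IsConj t p.2 ∧ p.1 * p.2 = c} = 4 := by
  obtain ⟨hcN, j, hj⟩ := hc
  have hsr : ∀ i, (e.symm (sr i))⁻¹ * ⟨c, hcN⟩ = e.symm (sr (i + j)) := by
    intro i
    rw [MulEquiv.eq_symm_apply, map_mul, map_inv, MulEquiv.apply_symm_apply, hj, inv_sr, sr_mul_r]
  have hsr' : ∀ i, ((e.symm (sr i) : Subgroup.centralizer ({t} : Set G)) : G)⁻¹ * c = ((e.symm (sr (i + j)) : Subgroup.centralizer ({t} : Set G)) : G) := by
    intro i; rw [← hsr i]; rfl
  let F : ZMod 4 → {p : G × G // IsConj t p.1 ∧ IsConj t p.2 ∧ p.1 * p.2 = c} := fun i =>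
    ⟨(((e.symm (sr i) : Subgroup.centralizer ({t} : Set G)) : G),
      ((e.symm (sr i) : Subgroup.centralizer ({t} : Set G)) : G)⁻¹ * c),
      isConj_sr hperf ht e i, by
        change IsConj t (((e.symm (sr i) : Subgroup.centralizer ({t} : Set G)) : G)⁻¹ * c)
        rw [hsr' i]; exact isConj_sr hperf ht e _, by
        change ((e.symm (sr i) : Subgroup.centralizer ({t} : Set G)) : G) * (((e.symm (sr i) : Subgroup.centralizer ({t} : Set G)) : G)⁻¹ * c) = c
        rw [mul_inv_cancel_left]⟩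
  have hF : Function.Bijective F := by
    constructor
    · intro a b hab
      have h1 : ((e.symm (sr a) : Subgroup.centralizer ({t} : Set G)) : G) = ((e.symm (sr b) : Subgroup.centralizer ({t} : Set G)) : G) :=
        congrArg (fun p : {p : G × G // IsConj t p.1 ∧ IsConj t p.2 ∧ p.1 * p.2 = c} => p.1.1) hab
      have h2 : e.symm (sr a) = e.symm (sr b) := Subtype.ext h1
      have h3 := e.symm.injective h2
      injection h3
    · rintro ⟨⟨u, v⟩, hu, hv, huv⟩
      simp only at hu hv huv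
      have hord : ∀ x, IsConj t x → orderOf x = 2 := by
        intro x hx
        obtain ⟨g, rfl⟩ := isConj_iff.1 hx
        have := (MulAut.conj g).orderOf_eq t
        rw [← ht, ← this]; rfl
      have hsq : ∀ x : G, orderOf x = 2 → x * x = 1 := by
        intro x hx; rw [← pow_two, ← hx, pow_orderOf_eq_one]
      have huu := hsq u (hord u hu)
      have hvv := hsq v (hord v hv)
      have hui : u⁻¹ = u := inv_eq_of_mul_eq_one_right huu
      have hvi : v⁻¹ = v := inv_eq_of_mul_eq_one_right hvv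
      have h1 : u⁻¹ * c * u = c⁻¹ := by
        rw [← huv, mul_inv_rev, hvi, hui, ← mul_assoc, huu, one_mul]
      have huN : u ∈ Subgroup.centralizer ({t} : Set G) := by
        apply mem_centralizer_of_conj ht e ⟨hcN, j, hj⟩ hc1
        rw [h1]; exact (cyc e).inv_mem ⟨hcN, j, hj⟩
      have hv' : v = u⁻¹ * c := by rw [← huv, inv_mul_cancel_left]
      rcases hu' : e ⟨u, huN⟩ with i | i
      · exfalso
        have huc : u ∈ cyc e := ⟨huN, i, hu'⟩
        have h2 := eq_t_of_mem ht e huc (hord u hu)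
        have hvc : v ∈ cyc e := by
          rw [hv']; exact (cyc e).mul_mem ((cyc e).inv_mem huc) ⟨hcN, j, hj⟩
        have h3 := eq_t_of_mem ht e hvc (hord v hv)
        apply hc1
        rw [← huv, h3, ← h2, huu]
      · refine ⟨i, ?_⟩
        apply Subtype.ext
        have h2 : ((e.symm (sr i) : Subgroup.centralizer ({t} : Set G)) : G) = u := by
          rw [← hu', MulEquiv.symm_apply_apply]
        change (((e.symm (sr i) : Subgroup.centralizer ({t} : Set G)) : G),
          ((e.symm (sr i) : Subgroup.centralizer ({t} : Set G)) : G)⁻¹ * c) = (u, v)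
        rw [h2, ← hv']
  rw [← Nat.card_congr (Equiv.ofBijective F hF), Nat.card_zmod]

end Finite

section Main

variable [Fintype G]

theorem kap_eq [Fintype (IrrCharacter G)] (hperf : commutator G = ⊤) (ht : orderOf t = 2)
    (e : Subgroup.centralizer ({t} : Set G) ≃* DihedralGroup 4) {c : G} (hc : c ∈ cyc e) (hc1 : c ≠ 1) :
    TI2.kap t c = 256 / (Nat.card G : ℂ) := by
  have h1 := TI2.card_eq_kap t c
  rw [card_pairs hperf ht e ((cyc e).inv_mem hc) (by simpa using hc1)] at h1
  have h2 := card_isConj_mul_card_centralizer t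
  rw [card_centralizer e] at h2
  have hG : ((Nat.card G : ℕ) : ℂ) ≠ 0 := cardG_ne_zero_complex G
  have h3 : ((Nat.card {x : G // IsConj t x} : ℕ) : ℂ) * 8 = (Nat.card G : ℂ) := by exact_mod_cast h2
  set K : ℂ := ((Nat.card {x : G // IsConj t x} : ℕ) : ℂ) with hK
  have hK0 : K ≠ 0 := by
    intro h; rw [h, zero_mul] at h3; exact hG h3.symm
  rw [← h3] at h1 ⊢
  push_cast at h1
  field_simp at h1 ⊢
  linear_combination -8 * h1

theorem inner_Theta_kap [Fintype (IrrCharacter G)] (hperf : commutator G = ⊤) (ht : orderOf t = 2)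
    (e : Subgroup.centralizer ({t} : Set G) ≃* DihedralGroup 4) :
    classInner (loc ht e).Theta (TI2.kap t) = 256 / (Nat.card G : ℂ) := by
  classical
  unfold TI2.Theta
  rw [frobenius_reciprocity _ _ _ (TI2.kap_isClass t)]
  unfold classInner
  have h1 : ∀ y : (loc ht e).C, (1 - (loc ht e).mu y) * conj (TI2.kap t (y : G)) =
      (1 - (loc ht e).mu y) * (256 / (Nat.card G : ℂ)) := by
    intro y
    by_cases hy : (y : G) = 1
    · have : y = 1 := Subtype.ext hy
      rw [this, map_one, sub_self, zero_mul, zero_mul]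
    · rw [kap_eq hperf ht e y.2 hy, map_div₀, Complex.conj_natCast, Complex.conj_ofNat]
  rw [Finset.sum_congr rfl (fun y _ => h1 y), ← Finset.sum_mul, Finset.sum_sub_distrib,
    (loc ht e).sum_mu, Finset.sum_const, Finset.card_univ, nsmul_eq_mul]
  have := card_ne_zero_complex (loc ht e).C
  rw [Nat.card_eq_fintype_card] at this ⊢
  field_simp
  ring

theorem arith (r f : ℕ) (hr : Odd r) (h : r * (f - 1 : ℤ) ^ 2 = 32 * (f * (f + 1))) (hf : 0 < f) :
    r = 45 := by
  have hf1 : f ≠ 1 := by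
    rintro rfl
    norm_num at h
  obtain ⟨d, rfl⟩ : ∃ d, f = d + 1 := ⟨f - 1, by omega⟩
  have hd0 : d ≠ 0 := by omega
  have h1 : r * d ^ 2 = 32 * ((d + 1) * (d + 2)) := by
    have : ((r * d ^ 2 : ℕ) : ℤ) = ((32 * ((d + 1) * (d + 2)) : ℕ) : ℤ) := by
      push_cast at h ⊢
      linear_combination h
    exact_mod_cast this
  have h2 : d ∣ 64 := by
    have h3 : d ∣ 32 * ((d + 1) * (d + 2)) := by
      rw [← h1]; exact Dvd.intro (r * d) (by ring)
    have h4 : d ∣ 32 * (d * d + 3 * d) + 64 := by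
      have : 32 * ((d + 1) * (d + 2)) = 32 * (d * d + 3 * d) + 64 := by ring
      rwa [this] at h3
    have h5 : d ∣ 32 * (d * d + 3 * d) := Dvd.intro (32 * (d + 3)) (by ring)
    exact (Nat.dvd_add_right h5).1 h4
  have h3 : d ∈ Nat.divisors 64 := by rw [Nat.mem_divisors]; exact ⟨h2, by norm_num⟩
  have h4 : Nat.divisors 64 = {1, 2, 4, 8, 16, 32, 64} := by decide
  rw [h4] at h3
  simp only [Finset.mem_insert, Finset.mem_singleton] at h3
  obtain ⟨k, rfl⟩ := hr
  rcases h3 with rfl | rfl | rfl | rfl | rfl | rfl | rfl <;> norm_num at h1 <;> omega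

theorem arith' (r f : ℕ) (hr : Odd r) (h : r * (f + 2) ^ 2 = 32 * (f * (f + 1))) (hf : 0 < f) :
    r = 21 := by
  obtain ⟨d, hd⟩ : ∃ d, d = f + 2 := ⟨_, rfl⟩
  have h2 : d ∣ 64 := by
    have h3 : d ∣ 32 * (f * (f + 1)) := by
      rw [← h, hd]; exact Dvd.intro (r * (f + 2)) (by ring)
    have h5 : 32 * (f * (f + 1)) + 32 * 3 * d = d * (32 * d) + 64 := by rw [hd]; ring
    have h6 : d ∣ 32 * (f * (f + 1)) + 32 * 3 * d := Dvd.dvd.add h3 (Dvd.intro_left _ rfl)
    rw [h5] at h6
    exact (Nat.dvd_add_right (Dvd.intro _ rfl)).1 h6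
  have h3 : d ∈ Nat.divisors 64 := by rw [Nat.mem_divisors]; exact ⟨h2, by norm_num⟩
  have h4 : Nat.divisors 64 = {1, 2, 4, 8, 16, 32, 64} := by decide
  rw [h4] at h3
  simp only [Finset.mem_insert, Finset.mem_singleton] at h3
  obtain ⟨k, rfl⟩ := hr
  rcases h3 with h3 | h3 | h3 | h3 | h3 | h3 | h3
  · omega
  · omega
  · obtain rfl : f = 2 := by omega
    norm_num at h; omega
  · obtain rfl : f = 6 := by omega
    norm_num at h; omega
  · obtain rfl : f = 14 := by omega
    norm_num at h; omega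
  · obtain rfl : f = 30 := by omega
    norm_num at h; omega
  · obtain rfl : f = 62 := by omega
    norm_num at h; omega

/-- character values at involutions are integers. -/
theorem exists_int {χ : G → ℂ} (hχ : IsCharacter G χ) (ht : orderOf t = 2) : ∃ h : ℤ, χ t = h := by
  obtain ⟨n, ρ, rfl⟩ := hχ
  obtain ⟨s, -, hs, hsum⟩ := exists_roots_of_isCharacter ρ t
  rw [hsum]
  clear hsum
  induction s using Multiset.induction_on with
  | empty => exact ⟨0, by simp⟩
  | cons a s ih =>
    obtain ⟨k, hk⟩ := ih (fun z hz => hs z (Multiset.mem_cons_of_mem hz))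
    have ha := hs a (Multiset.mem_cons_self a s)
    rw [ht] at ha
    rw [Multiset.sum_cons, hk]
    rcases (show a = 1 ∨ a = -1 from by
      have h0 : (a - 1) * (a + 1) = 0 := by linear_combination ha
      rcases mul_eq_zero.1 h0 with h | h
      · left; linear_combination h
      · right; linear_combination h) with h | h
    · exact ⟨1 + k, by rw [h]; push_cast; ring⟩
    · exact ⟨-1 + k, by rw [h]; push_cast; ring⟩

theorem main (hperf : commutator G = ⊤) (ht : orderOf t = 2)
    (e : Subgroup.centralizer ({t} : Set G) ≃* DihedralGroup 4) :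
    Nat.card G = 168 ∨ Nat.card G = 360 := by
  classical
  have := Fintype.ofFinite (IrrCharacter G)
  obtain ⟨r, hr, hcard⟩ := card_eq ht e
  obtain ⟨χ₁, χ₂, h1, h2, h3, h4, h5, h6⟩ := (loc ht e).exists_pair
  have hone : IsIrrCharacter G (fun _ => (1 : ℂ)) := Char.isIrrCharacter_one
  obtain ⟨f, hf0, hf⟩ := Cfsg.Agent.Coh.irr_degree h2
  obtain ⟨h, hh⟩ := exists_int (isCharacter_of_isIrr h2) ht
  -- value of Theta at t
  have htC : t ∈ cyc e := ⟨t_mem, 2, e_t ht e⟩
  have hmut : (loc ht e).mu ⟨t, htC⟩ = -1 := by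
    change df (e ⟨t, _⟩) = -1
    have h7 : e ⟨t, htC.1⟩ = DihedralGroup.r 2 := e_t ht e
    rw [h7]
    change Complex.I ^ (2 : ZMod 4).val = -1
    have h8 : (2 : ZMod 4).val = 2 := rfl
    rw [h8, Complex.I_sq]
  have hTt := (loc ht e).Theta_of_ne ⟨t, htC⟩ (by rw [hmut]; norm_num)
  rw [hmut, h6] at hTt
  simp only [map_neg, map_one] at hTt
  have hχ₁t : χ₁ t = h - 3 := by
    rw [hh] at hTt
    linear_combination -hTt
  -- the equation
  have hin := inner_Theta_kap hperf ht e
  have hT' : (loc ht e).Theta = (fun _ => (1 : ℂ)) + χ₂ - χ₁ := by rw [h6]; rfl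
  rw [hT', classInner_sub_left, classInner_add_left, TI2.inner_kap t hone, TI2.inner_kap t h2,
    TI2.inner_kap t h1, h5, hχ₁t, hh, hf] at hin
  have hin' := congrArg conj hin
  simp only [map_add, map_sub, Complex.conj_conj, map_div₀, map_ofNat, Complex.conj_natCast] at hin'
  have hf' : (f : ℂ) ≠ 0 := by exact_mod_cast hf0.ne'
  have hf1' : (f : ℂ) + 1 ≠ 0 := by exact_mod_cast (Nat.succ_ne_zero f)
  have hG : (Nat.card G : ℂ) = 8 * r := by exact_mod_cast hcard
  have hr0 : (r : ℂ) ≠ 0 := by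
    obtain ⟨k, rfl⟩ := hr
    exact_mod_cast (Nat.succ_ne_zero (2 * k))
  rw [hG] at hin'
  have heq : (r : ℤ) * (f * (f + 1) + h ^ 2 * (f + 1) - (h - 3) ^ 2 * f) = 32 * (f * (f + 1)) := by
    have : (r : ℂ) * (f * (f + 1) + h ^ 2 * (f + 1) - (h - 3) ^ 2 * f) = 32 * (f * (f + 1)) := by
      field_simp at hin'
      linear_combination hin' / 8
    exact_mod_cast this
  -- the bound
  have hbound : h ^ 2 + (h - 3) ^ 2 ≤ 7 := by
    have h7 := column_orthogonality_of_isConj (IsConj.refl t)
    rw [card_centralizer e] at h7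
    have h8 : ∑ χ : IrrCharacter G, ‖(χ : G → ℂ) t‖ ^ 2 = 8 := by
      have h9 : ∀ χ : IrrCharacter G, (((‖(χ : G → ℂ) t‖ ^ 2 : ℝ)) : ℂ) = (χ : G → ℂ) t * conj ((χ : G → ℂ) t) := by
        intro χ
        rw [Complex.mul_conj, Complex.normSq_eq_norm_sq]
      have h10 : ((∑ χ : IrrCharacter G, ‖(χ : G → ℂ) t‖ ^ 2 : ℝ) : ℂ) = ((8 : ℝ) : ℂ) := by
        rw [Complex.ofReal_sum, Finset.sum_congr rfl (fun χ _ => h9 χ), h7]
        norm_num
      exact_mod_cast h10
    have hne12 : χ₁ ≠ χ₂ := by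
      intro h
      rw [h] at h5
      have h9 : (0 : ℂ) = 1 := by linear_combination h5
      norm_num at h9
    have hsub : ∑ χ ∈ ({⟨_, hone⟩, ⟨χ₂, h2⟩, ⟨χ₁, h1⟩} : Finset (IrrCharacter G)), ‖(χ : G → ℂ) t‖ ^ 2 ≤ 8 := by
      rw [← h8]
      exact Finset.sum_le_sum_of_subset_of_nonneg (Finset.subset_univ _) (fun _ _ _ => by positivity)
    rw [Finset.sum_insert, Finset.sum_insert, Finset.sum_singleton] at hsub
    · simp only [hh, hχ₁t] at hsub
      have h10 : ‖(h : ℂ)‖ ^ 2 = (h : ℝ) ^ 2 := by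
        rw [Complex.norm_intCast, sq_abs]
      have h11 : ‖(h : ℂ) - 3‖ ^ 2 = ((h : ℝ) - 3) ^ 2 := by
        have : (h : ℂ) - 3 = ((h - 3 : ℤ) : ℂ) := by push_cast; ring
        rw [this, Complex.norm_intCast, sq_abs]; push_cast; ring
      rw [h10, h11] at hsub
      have h12 : ‖(1 : ℂ)‖ ^ 2 = (1 : ℝ) := by simp
      rw [h12] at hsub
      have h13 : ((h ^ 2 + (h - 3) ^ 2 : ℤ) : ℝ) ≤ ((7 : ℤ) : ℝ) := by push_cast; linarith
      exact_mod_cast h13
    · rw [Finset.mem_singleton]
      intro h9; exact hne12 (congrArg Subtype.val h9).symm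
    · rw [Finset.mem_insert, Finset.mem_singleton]
      rintro (h9 | h9)
      · exact h4 (congrArg Subtype.val h9).symm
      · exact h3 (congrArg Subtype.val h9).symm
  have hh12 : h = 1 ∨ h = 2 := by
    have h7 : 0 ≤ h := by nlinarith
    have h8 : h ≤ 3 := by nlinarith
    interval_cases h <;> simp_all
  rcases hh12 with rfl | rfl
  · right
    have := arith r f hr (by linear_combination heq) hf0
    rw [hcard, this]
  · left
    have := arith' r f hr (by
      have h7 : (r : ℤ) * (f + 2) ^ 2 = 32 * (f * (f + 1)) := by linear_combination heq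
      exact_mod_cast h7) hf0
    rw [hcard, this]

end Main

end Cfsg.Agent.H14.D8Cent
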