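import Mathlib
import Cfsg.Agent.H27.BPA0
import Cfsg.Agent.H14.SubField

/-! S5753: the field of a dihedral group of order `2(q+1)` on a group of order `q²`. -/

set_option autoImplicit false

namespace Cfsg.Agent.H14.BAEnd

open Cfsg.Agent.H27.BPA

section fld

variable {V : Type*} [AddCommGroup V] {s : Set (AddMonoid.End V)}

/-- evaluation at a vector -/
def ev (s : Set (AddMonoid.End V)) (v : V) : Subring.closure s →+ V where
  toFun ε := (ε : AddMonoid.End V) v
  map_zero' := rfl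
  map_add' _ _ := rfl

theorem ev_apply (v : V) (ε : Subring.closure s) : ev s v ε = (ε : AddMonoid.End V) v := rfl

theorem ev_mul (v : V) (ε δ : Subring.closure s) :
    ev s v (ε * δ) = (ε : AddMonoid.End V) (ev s v δ) := rfl

theorem ev_surj (hirr : ∀ W : AddSubgroup V, (∀ x ∈ s, ∀ v ∈ W, x v ∈ W) → W = ⊥ ∨ W = ⊤)
    {v : V} (hv : v ≠ 0) : Function.Surjective (ev s v) := by
  have hinv : ∀ x ∈ s, ∀ w ∈ (ev s v).range, x w ∈ (ev s v).range := by
    rintro x hx _ ⟨ε, rfl⟩
    exact ⟨⟨x, Subring.subset_closure hx⟩ * ε, rfl⟩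
  rcases hirr (ev s v).range hinv with h | h
  · exfalso; apply hv
    have h1 : v ∈ (ev s v).range := ⟨1, rfl⟩
    rw [h] at h1; exact AddSubgroup.mem_bot.1 h1
  · exact AddMonoidHom.range_eq_top.1 h

theorem comm (hc : ∀ x ∈ s, ∀ y ∈ s, x * y = y * x) (ε δ : Subring.closure s) :
    ε * δ = δ * ε :=
  (Subring.closureCommRingOfComm hc).mul_comm ε δ

theorem ev_inj (hirr : ∀ W : AddSubgroup V, (∀ x ∈ s, ∀ v ∈ W, x v ∈ W) → W = ⊥ ∨ W = ⊤)
    (hc : ∀ x ∈ s, ∀ y ∈ s, x * y = y * x) {v : V} (hv : v ≠ 0) :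
    Function.Injective (ev s v) := by
  rw [injective_iff_map_eq_zero]
  intro ε hε
  apply Subtype.ext
  apply AddMonoidHom.ext
  intro w
  obtain ⟨δ, rfl⟩ := ev_surj hirr hv w
  show (ε : AddMonoid.End V) (ev s v δ) = 0
  rw [← ev_mul, comm hc, ev_mul, hε, map_zero]

theorem isField [Nontrivial V]
    (hirr : ∀ W : AddSubgroup V, (∀ x ∈ s, ∀ v ∈ W, x v ∈ W) → W = ⊥ ∨ W = ⊤)
    (hc : ∀ x ∈ s, ∀ y ∈ s, x * y = y * x) : IsField (Subring.closure s) where
  exists_pair_ne := by
    obtain ⟨v, hv⟩ := exists_ne (0 : V)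
    refine ⟨0, 1, fun h => hv ?_⟩
    have h1 := congrArg (ev s v) h
    rw [map_zero] at h1
    exact h1.symm
  mul_comm := comm hc
  mul_inv_cancel := by
    intro ε hε
    obtain ⟨v, hv⟩ := exists_ne (0 : V)
    have h1 : ev s v ε ≠ 0 := by
      intro h
      apply hε
      apply ev_inj hirr hc hv
      rw [h, map_zero]
    obtain ⟨δ, hδ⟩ := ev_surj hirr h1 v
    refine ⟨δ, ?_⟩
    rw [comm hc]
    apply ev_inj hirr hc hv
    rw [ev_mul]
    exact hδ

end fld

section arith

theorem pow_dvd {p a j : ℕ} (hp : 2 ≤ p) (hj : j ≤ 2 * a) (h : p ^ a + 1 ∣ p ^ j - 1) :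
    j = 0 ∨ j = 2 * a := by
  have hpa : 1 ≤ p ^ a := Nat.one_le_pow _ _ (by omega)
  rcases Nat.lt_or_ge a j with h1 | h1
  · right
    obtain ⟨i, rfl⟩ := Nat.exists_eq_add_of_lt h1
    have hpi : 1 ≤ p ^ (i + 1) := Nat.one_le_pow _ _ (by omega)
    have e1 : p ^ (a + i + 1) - 1 + (p ^ (i + 1) + 1) = (p ^ a + 1) * p ^ (i + 1) := by
      have e2 : p ^ (a + i + 1) = p ^ a * p ^ (i + 1) := by rw [← pow_add, add_assoc]
      have e3 : 1 ≤ p ^ a * p ^ (i + 1) := Nat.mul_pos hpa hpi
      rw [e2, add_mul, one_mul]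
      omega
    have h2 : p ^ a + 1 ∣ p ^ (i + 1) + 1 := (Nat.dvd_add_right h).1 (by rw [e1]; exact Dvd.intro _ rfl)
    have h3 := Nat.le_of_dvd (by omega) h2
    have h4 : p ^ a ≤ p ^ (i + 1) := by omega
    have h5 := (Nat.pow_le_pow_iff_right (by omega : 1 < p)).1 h4
    omega
  · left
    have h2 : p ^ j ≤ p ^ a := Nat.pow_le_pow_right (by omega) h1
    have h3 : p ^ j - 1 = 0 := Nat.eq_zero_of_dvd_of_lt h (by omega)
    by_contra hj0
    have h4 : p ^ 1 ≤ p ^ j := Nat.pow_le_pow_right (by omega) (by omega)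
    rw [pow_one] at h4
    omega

theorem card_dvd_of_free {C X : Type*} [Group C] [MulAction C X] [Finite C] [Finite X]
    (h : ∀ (c : C) (x : X), c • x = x → c = 1) : Nat.card C ∣ Nat.card X := by
  classical
  have := Fintype.ofFinite (Quotient (MulAction.orbitRel C X))
  have e := MulAction.selfEquivSigmaOrbitsQuotientStabilizer C X
  rw [Nat.card_congr e, Nat.card_sigma]
  apply Finset.dvd_sum
  intro ω _
  have h1 : MulAction.stabilizer C (Quotient.out ω) = ⊥ := by
    rw [eq_bot_iff]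
    intro c hc
    exact Subgroup.mem_bot.2 (h c _ hc)
  rw [h1]
  exact dvd_of_eq (Nat.card_congr QuotientGroup.quotientBot.toEquiv).symm

theorem irr {p a : ℕ} [hp : Fact p.Prime] {H V : Type*} [Group H] [Finite H] [AddCommGroup V]
    [Finite V] [DistribMulAction H V] {C : Subgroup H} (hV : Nat.card V = (p ^ a) ^ 2)
    (hC : Nat.card C = p ^ a + 1) (hfree : ∀ c ∈ C, c ≠ 1 → ∀ v : V, c • v = v → v = 0)
    (W : AddSubgroup V) (hW : ∀ c ∈ C, ∀ v ∈ W, c • v ∈ W) : W = ⊥ ∨ W = ⊤ := by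
  have h1 : Nat.card W ∣ p ^ (2 * a) := by
    rw [mul_comm, pow_mul, ← hV]; exact AddSubgroup.card_addSubgroup_dvd_card W
  obtain ⟨j, hj, hWj⟩ := (Nat.dvd_prime_pow hp.out).1 h1
  let : MulAction C {w : V // w ∈ W ∧ w ≠ 0} :=
    { smul := fun c w => ⟨(c : H) • w.1, hW c c.2 _ w.2.1, fun h => w.2.2 (by
        have h2 := congrArg (fun x => (c : H)⁻¹ • x) h
        simpa using h2)⟩
      one_smul := fun w => Subtype.ext (one_smul H w.1)
      mul_smul := fun c d w => Subtype.ext (mul_smul (c : H) (d : H) w.1) }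
  have h2 : Nat.card C ∣ Nat.card {w : V // w ∈ W ∧ w ≠ 0} := by
    apply card_dvd_of_free
    intro c w hc
    by_contra hne
    exact w.2.2 (hfree c c.2 (fun h => hne (Subtype.ext h)) w.1 (congrArg Subtype.val hc))
  have h3 : Nat.card {w : V // w ∈ W ∧ w ≠ 0} = Nat.card W - 1 := by
    have h4 : Nat.card {w : V // w ∈ W ∧ w ≠ 0} = ((W : Set V) \ {0}).ncard := Nat.card_coe_set_eq _
    rw [h4, Set.ncard_sdiff_singleton_of_mem (AddSubgroup.zero_mem W), ← Nat.card_coe_set_eq]
    rfl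
  rw [h3, hC, hWj] at h2
  rcases pow_dvd hp.out.two_le hj h2 with h4 | h4
  · left
    rw [h4, pow_zero] at hWj
    exact AddSubgroup.card_eq_one.1 hWj
  · right
    apply AddSubgroup.eq_top_of_card_eq
    rw [hWj, hV, h4, mul_comm, pow_mul]

end arith

section main

variable {p a : ℕ} [hp : Fact p.Prime] {H V : Type*} [Group H] [Finite H] [AddCommGroup V]
    [Finite V] [DistribMulAction H V] [FaithfulSMul H V]

/-- the representation -/
abbrev rho (H V : Type*) [Group H] [AddCommGroup V] [DistribMulAction H V] :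
    H →* AddMonoid.End V := DistribMulAction.toAddMonoidEnd H V

theorem rho_apply (h : H) (v : V) : rho H V h v = h • v := rfl

theorem rho_inj : Function.Injective (rho H V) := by
  intro g h hgh
  apply FaithfulSMul.eq_of_smul_eq_smul (α := V)
  intro v
  exact DFunLike.congr_fun hgh v

/-- the semilinear coordinate -/
theorem exists_coord (ha : 1 ≤ a) {C : Subgroup H} {t : H} (hV : Nat.card V = (p ^ a) ^ 2)
    (hcomm : ∀ x ∈ C, ∀ y ∈ C, x * y = y * x) (hC : Nat.card C = p ^ a + 1)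
    (hfree : ∀ c ∈ C, c ≠ 1 → ∀ v : V, c • v = v → v = 0)
    (htt : t * t = 1) (htc : ∀ c ∈ C, t * c * t = c⁻¹) {v : V} (hv : v ≠ 0) (htv : t • v = v)
    {E : Type} [Field E] [Fintype E] (hE : Nat.card E = (p ^ a) ^ 2) :
    ∃ (e : V ≃+ E) (γ : C →* Eˣ), Function.Injective γ ∧
      (∀ (c : C) (w : V), e ((c : H) • w) = (γ c : E) * e w) ∧
      (∀ w : V, e (t • w) = (e w) ^ (p ^ a)) := by
  set s : Set (AddMonoid.End V) := (rho H V) '' (C : Set H) with hs
  have hc : ∀ x ∈ s, ∀ y ∈ s, x * y = y * x := by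
    rintro _ ⟨x, hx, rfl⟩ _ ⟨y, hy, rfl⟩
    rw [← map_mul, hcomm x hx y hy, map_mul]
  have hirr : ∀ W : AddSubgroup V, (∀ x ∈ s, ∀ v ∈ W, x v ∈ W) → W = ⊥ ∨ W = ⊤ := by
    intro W hW
    exact irr hV hC hfree W fun c hc v hv => hW _ ⟨c, hc, rfl⟩ v hv
  have hnt : Nontrivial V := ⟨v, 0, hv⟩
  let fK : Field (Subring.closure s) := (isField hirr hc).toField
  have hbij : Function.Bijective (ev s v) := ⟨ev_inj hirr hc hv, ev_surj hirr hv⟩
  have hfin : Finite (Subring.closure s) := Finite.of_injective _ hbij.1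
  have hcardK : Nat.card (Subring.closure s) = (p ^ a) ^ 2 := by
    rw [← hV]; exact Nat.card_congr (Equiv.ofBijective _ hbij)
  let : Fintype (Subring.closure s) := Fintype.ofFinite _
  let σ : Subring.closure s ≃+* E := FiniteField.ringEquivOfCardEq
    (by rw [← Nat.card_eq_fintype_card, ← Nat.card_eq_fintype_card, hcardK, hE])
  -- characteristic
  have hchar : CharP (Subring.closure s) p := by
    obtain ⟨r, hr⟩ := CharP.exists (Subring.closure s)
    obtain ⟨n, hrp, hn⟩ := FiniteField.card (Subring.closure s) r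
    have h1 : r ∣ (p ^ a) ^ 2 := by
      rw [← hcardK, Nat.card_eq_fintype_card, hn]
      exact dvd_pow_self r n.ne_zero
    have h2 : r = p := (Nat.prime_dvd_prime_iff_eq hrp hp.out).1
      (hrp.dvd_of_dvd_pow (hrp.dvd_of_dvd_pow h1))
    rw [← h2]; exact hr
  -- the twist
  have key : ∀ ε : Subring.closure s, rho H V t * (ε : AddMonoid.End V) * rho H V t =
      ((ε ^ (p ^ a) : Subring.closure s) : AddMonoid.End V) := by
    have hTT : rho H V t * rho H V t = 1 := by rw [← map_mul, htt, map_one]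
    rintro ⟨x, hx⟩
    induction hx using Subring.closure_induction with
    | mem x hx =>
      obtain ⟨c, hcC, rfl⟩ := hx
      have h1 : c ^ (p ^ a) = c⁻¹ := by
        rw [eq_inv_iff_mul_eq_one, ← pow_succ, ← hC]
        exact congrArg Subtype.val (pow_card_eq_one' (x := (⟨c, hcC⟩ : C)))
      show rho H V t * rho H V c * rho H V t = (rho H V c) ^ (p ^ a)
      rw [← map_mul, ← map_mul, htc c hcC, ← map_pow, h1]
    | zero =>
      have h1 : (⟨0, Subring.zero_mem _⟩ : Subring.closure s) = 0 := rfl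
      rw [h1, zero_pow (pow_ne_zero _ hp.out.ne_zero)]
      show rho H V t * 0 * rho H V t = 0
      rw [mul_zero, zero_mul]
    | one =>
      have h1 : (⟨1, Subring.one_mem _⟩ : Subring.closure s) = 1 := rfl
      rw [h1, one_pow]
      show rho H V t * 1 * rho H V t = 1
      rw [mul_one, hTT]
    | add x y hx hy hx1 hy1 =>
      have h1 : (⟨x + y, Subring.add_mem _ hx hy⟩ : Subring.closure s) = ⟨x, hx⟩ + ⟨y, hy⟩ := rfl
      rw [h1, add_pow_char_pow]
      show rho H V t * (x + y) * rho H V t = _ + _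
      rw [mul_add, add_mul]
      rw [← hx1, ← hy1]
    | neg x hx hx1 =>
      have h1 : (⟨-x, Subring.neg_mem _ hx⟩ : Subring.closure s) = -⟨x, hx⟩ := rfl
      have h2 : (-(⟨x, hx⟩ : Subring.closure s)) ^ (p ^ a) = -((⟨x, hx⟩ : Subring.closure s) ^ (p ^ a)) :=
        map_neg (iterateFrobenius (Subring.closure s) p a) _
      rw [h1, h2]
      show rho H V t * (-x) * rho H V t = -_
      rw [← hx1]
      simp only [mul_neg, neg_mul]
    | mul x y hx hy hx1 hy1 =>
      have h1 : (⟨x * y, Subring.mul_mem _ hx hy⟩ : Subring.closure s) = ⟨x, hx⟩ * ⟨y, hy⟩ := rfl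
      rw [h1, mul_pow]
      show rho H V t * (x * y) * rho H V t = _ * _
      rw [← hx1, ← hy1]
      calc rho H V t * (x * y) * rho H V t = rho H V t * x * 1 * y * rho H V t := by
            rw [mul_one]; simp only [mul_assoc]
        _ = _ := by rw [← hTT]; simp only [mul_assoc]
  let ε0 : Subring.closure s ≃+ V := AddEquiv.ofBijective (ev s v) hbij
  let γ0 : C →* Subring.closure s :=
    { toFun := fun c => ⟨rho H V c, Subring.subset_closure ⟨c, c.2, rfl⟩⟩
      map_one' := Subtype.ext (map_one _)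
      map_mul' := fun x y => Subtype.ext (map_mul _ _ _) }
  let γ : C →* Eˣ := ((σ : Subring.closure s →* E).comp γ0).toHomUnits
  refine ⟨ε0.symm.trans σ.toAddEquiv, γ, ?_, ?_, ?_⟩
  · intro x y hxy
    have h1 : σ (γ0 x) = σ (γ0 y) := congrArg Units.val hxy
    have h2 : γ0 x = γ0 y := σ.injective h1
    exact Subtype.ext (rho_inj (congrArg Subtype.val h2))
  · intro c w
    obtain ⟨ε, rfl⟩ := ε0.surjective w
    have h1 : (c : H) • ε0 ε = ε0 (γ0 c * ε) := rfl
    show σ (ε0.symm ((c : H) • ε0 ε)) = σ (γ0 c) * σ (ε0.symm (ε0 ε))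
    rw [h1, AddEquiv.symm_apply_apply, AddEquiv.symm_apply_apply, map_mul]
  · intro w
    obtain ⟨ε, rfl⟩ := ε0.surjective w
    have h1 : t • ε0 ε = ε0 (ε ^ (p ^ a)) := by
      have h2 : ε0 (ε ^ (p ^ a)) = ((ε ^ (p ^ a) : Subring.closure s) : AddMonoid.End V) v := rfl
      rw [h2, ← key]
      show t • ((ε : AddMonoid.End V) v) = t • ((ε : AddMonoid.End V) (t • v))
      rw [htv]
    show σ (ε0.symm (t • ε0 ε)) = (σ (ε0.symm (ε0 ε))) ^ (p ^ a)
    rw [h1, AddEquiv.symm_apply_apply, AddEquiv.symm_apply_apply, map_pow]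

theorem end_thm (hd : Dih p H V) :
    ∃ (F E : Type) (_ : Field F) (_ : Fintype F) (_ : Field E) (_ : Fintype E) (_ : Algebra F E)
      (e : V ≃+ E), Module.finrank F E = 2 ∧
      ∀ f : V → V, (∃ h : H, ∀ v, f v = h • v) ↔
        ∃ (b : E) (φ : E ≃ₐ[F] E), Algebra.norm F b = 1 ∧ ∀ v, e (f v) = b * φ (e v) := by
  obtain ⟨a, C, t, ha, hV, hcomm, hC, hfree, htC, htt, htc, hH, v, hv, htv⟩ := hd
  let : Fintype (GaloisField p a) := Fintype.ofFinite _
  let : Fintype (GaloisField p (2 * a)) := Fintype.ofFinite _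
  have cF : Nat.card (GaloisField p a) = p ^ a := GaloisField.card p a (by omega)
  have cE : Nat.card (GaloisField p (2 * a)) = (p ^ a) ^ 2 := by
    rw [GaloisField.card p (2 * a) (by omega), mul_comm, pow_mul]
  obtain ⟨f⟩ := H14.SubField.exists_ringHom (K := GaloisField p a) (F := GaloisField p (2 * a))
    (m := 2) (by norm_num) (by
      rw [← Nat.card_eq_fintype_card, ← Nat.card_eq_fintype_card, cF, cE])
  let alg : Algebra (GaloisField p a) (GaloisField p (2 * a)) := f.toAlgebra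
  have hfr : Module.finrank (GaloisField p a) (GaloisField p (2 * a)) = 2 := by
    have h1 := Module.card_eq_pow_finrank (K := GaloisField p a) (V := GaloisField p (2 * a))
    rw [← Nat.card_eq_fintype_card, ← Nat.card_eq_fintype_card, cF, cE] at h1
    have h2 : 1 < p ^ a := Nat.one_lt_pow (by omega) hp.out.one_lt
    exact (Nat.pow_right_injective h2 h1).symm
  obtain ⟨e, γ, hγ, hec, het⟩ := exists_coord ha hV hcomm hC hfree htt htc hv htv
    (E := GaloisField p (2 * a)) cE
  have hnorm : ∀ b : GaloisField p (2 * a), Algebra.norm (GaloisField p a) b = 1 ↔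
      b ^ (p ^ a + 1) = 1 := by
    intro b
    have h1 := FiniteField.algebraMap_norm_eq_pow (K := GaloisField p a) (x := b)
    have h2 : (Nat.card (GaloisField p (2 * a)) - 1) / (Nat.card (GaloisField p a) - 1) = p ^ a + 1 := by
      rw [cF, cE]
      have h3 : 1 < p ^ a := Nat.one_lt_pow (by omega) hp.out.one_lt
      apply Nat.div_eq_of_eq_mul_left (by omega)
      obtain ⟨k, hk⟩ : ∃ k, p ^ a = k + 1 := ⟨p ^ a - 1, by omega⟩
      rw [hk]
      have : (k + 1) ^ 2 = (k + 1 + 1) * k + 1 := by ring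
      rw [this]; simp
    rw [h2] at h1
    rw [← h1]
    constructor
    · intro h; rw [h, map_one]
    · intro h
      apply (algebraMap (GaloisField p a) (GaloisField p (2 * a))).injective
      rw [h, map_one]
  have hC1 : ∀ c : C, ((γ c : (GaloisField p (2 * a))ˣ) : GaloisField p (2 * a)) ^ (p ^ a + 1) = 1 := by
    intro c
    rw [← Units.val_pow_eq_pow_val, ← map_pow, ← hC, pow_card_eq_one', map_one, Units.val_one]
  have hC2 : ∀ b : GaloisField p (2 * a), b ^ (p ^ a + 1) = 1 →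
      ∃ c : C, ((γ c : (GaloisField p (2 * a))ˣ) : GaloisField p (2 * a)) = b := by
    intro b hb
    have hb0 : b ≠ 0 := by
      rintro rfl
      rw [zero_pow (by omega)] at hb
      exact zero_ne_one hb
    let g : C → rootsOfUnity (p ^ a + 1) (GaloisField p (2 * a)) := fun c =>
      ⟨γ c, by rw [mem_rootsOfUnity]; apply Units.ext; rw [Units.val_pow_eq_pow_val]; exact hC1 c⟩
    have hg : Function.Injective g := fun x y h => hγ (congrArg Subtype.val h)
    have hcard : Nat.card (rootsOfUnity (p ^ a + 1) (GaloisField p (2 * a))) ≤ Nat.card C := by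
      rw [hC]
      exact card_rootsOfUnity _ _
    have hbij : Function.Bijective g := hg.bijective_of_nat_card_le hcard
    obtain ⟨c, hc⟩ := hbij.2 ⟨Units.mk0 b hb0, by
      rw [mem_rootsOfUnity]; apply Units.ext
      rw [Units.val_pow_eq_pow_val, Units.val_mk0]; exact hb⟩
    refine ⟨c, ?_⟩
    have h1 : γ c = Units.mk0 b hb0 := congrArg Subtype.val hc
    rw [h1, Units.val_mk0]
  -- the Galois group
  have hG := FiniteField.bijective_frobeniusAlgEquivOfAlgebraic_pow (GaloisField p a)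
    (GaloisField p (2 * a))
  have hfrob : ∀ x : GaloisField p (2 * a), FiniteField.frobeniusAlgEquivOfAlgebraic (GaloisField p a)
      (GaloisField p (2 * a)) x = x ^ (p ^ a) := by
    intro x
    have h1 : Fintype.card (GaloisField p a) = p ^ a := by rw [← Nat.card_eq_fintype_card, cF]
    rw [← h1]; rfl
  have hφ : ∀ φ : GaloisField p (2 * a) ≃ₐ[GaloisField p a] GaloisField p (2 * a),
      (∀ x, φ x = x) ∨ (∀ x, φ x = x ^ (p ^ a)) := by
    intro φ
    obtain ⟨⟨n, hn⟩, hn2⟩ := hG.2 φ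
    rw [hfr] at hn
    have hn01 : n = 0 ∨ n = 1 := by omega
    rcases hn01 with rfl | rfl
    · left; intro x; rw [← hn2]; rfl
    · right; intro x; rw [← hn2]
      show ((FiniteField.frobeniusAlgEquivOfAlgebraic (GaloisField p a) (GaloisField p (2 * a))) ^ 1) x = _
      rw [pow_one, hfrob]
  refine ⟨GaloisField p a, GaloisField p (2 * a), inferInstance, inferInstance, inferInstance,
    inferInstance, alg, e, hfr, ?_⟩
  intro g
  constructor
  · rintro ⟨h, hg⟩
    rcases hH h with hh | hh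
    · refine ⟨γ ⟨h, hh⟩, AlgEquiv.refl, (hnorm _).2 (hC1 _), ?_⟩
      intro w
      rw [hg]
      exact hec ⟨h, hh⟩ w
    · refine ⟨γ ⟨h * t, hh⟩, FiniteField.frobeniusAlgEquivOfAlgebraic _ _, (hnorm _).2 (hC1 _), ?_⟩
      intro w
      have h1 : h • w = (h * t) • (t • w) := by
        rw [← mul_smul, mul_assoc, htt, mul_one]
      rw [hg, h1, hfrob, ← het]
      exact hec ⟨h * t, hh⟩ (t • w)
  · rintro ⟨b, φ, hb, hg⟩
    obtain ⟨c, hc⟩ := hC2 b ((hnorm b).1 hb)
    rcases hφ φ with h1 | h1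
    · refine ⟨c, fun w => e.injective ?_⟩
      rw [hg, h1, hec, hc]
    · refine ⟨(c : H) * t, fun w => e.injective ?_⟩
      rw [hg, h1, mul_smul, hec, het, hc]

end main

end Cfsg.Agent.H14.BAEnd
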