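import Cfsg.Agent.H27.BPASpec

set_option autoImplicit false
set_option linter.unusedSectionVars false
set_option linter.deprecated false

/-!
S5753: uniqueness for odd `p`.
-/

namespace Cfsg.Agent.H14.BAOdd

open Cfsg.Agent.H27.BPA

variable {H V : Type*} [Group H] [AddCommGroup V] [DistribMulAction H V]

section av

variable [Finite H]

/-- kernel of averaging -/
noncomputable def kav (V : Type*) [AddCommGroup V] [DistribMulAction H V] (D : Subgroup H) :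
    AddSubgroup V where
  carrier := {v | av D v = 0}
  zero_mem' := by
    have := av_sub D (0 : V) 0
    simpa using this
  add_mem' := fun {a b} h1 h2 => by
    have h1' : av D a = 0 := h1
    have h2' : av D b = 0 := h2
    show av D (a + b) = 0
    rw [av_add, h1', h2', add_zero]
  neg_mem' := fun {a} h1 => by
    have h1' : av D a = 0 := h1
    show av D (-a) = 0
    have h0 : av D (0 : V) = 0 := by
      have := av_sub D (0 : V) 0
      simpa using this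
    have := av_sub D (0 : V) a
    rw [zero_sub, h1', h0, sub_zero] at this
    exact this

theorem mem_kav {D : Subgroup H} {v : V} : v ∈ kav V D ↔ av D v = 0 := Iff.rfl

theorem Wx_le_kav (D : Subgroup H) {u : H} (hu : u ∈ D) : Wx V u ≤ kav V D := by
  intro w hw
  obtain ⟨x, rfl⟩ := mem_Wx.1 hw
  rw [mem_kav, av_sub, av_smul D hu, sub_self]

theorem avz {p : ℕ} [Fact p.Prime] (hH : ¬ p ∣ Nat.card H) (hp : ∀ v : V, p • v = 0) (S : Set H)
    {x : V} (W : AddSubgroup V) (hW : ∀ D : Subgroup H, S ⊆ D → W ≤ kav V D) (hx : x ∈ W)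
    (hf : ∀ u ∈ S, x ∈ Fx V u) : x = 0 := by
  set D := Subgroup.closure S with hD
  have h1 : av D x = 0 := hW D Subgroup.subset_closure hx
  have hle : D ≤ MulAction.stabilizer H x := by
    rw [hD, Subgroup.closure_le]
    intro u hu
    exact mem_Fx.1 (hf u hu)
  rw [av_fix D (fun h hh => hle hh)] at h1
  exact tors hp (fun hd => hH (hd.trans (Subgroup.card_subgroup_dvd_card D))) h1

theorem avz2 {p : ℕ} [Fact p.Prime] (hH : ¬ p ∣ Nat.card H) (hp : ∀ v : V, p • v = 0) {u v : H}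
    {x : V} (hx : x ∈ Wx V u ⊔ Wx V v) (h1 : x ∈ Fx V u) (h2 : x ∈ Fx V v) : x = 0 := by
  refine avz hH hp {u, v} (Wx V u ⊔ Wx V v) (fun D hD => ?_) hx ?_
  · exact sup_le (Wx_le_kav D (hD (by simp))) (Wx_le_kav D (hD (by simp)))
  · rintro w (rfl | rfl)
    · exact h1
    · exact h2

theorem avz3 {p : ℕ} [Fact p.Prime] (hH : ¬ p ∣ Nat.card H) (hp : ∀ v : V, p • v = 0) {u v w : H}
    {x : V} (hx : x ∈ (Wx V u ⊔ Wx V v) ⊔ Wx V w) (h1 : x ∈ Fx V u) (h2 : x ∈ Fx V v)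
    (h3 : x ∈ Fx V w) : x = 0 := by
  refine avz hH hp {u, v, w} ((Wx V u ⊔ Wx V v) ⊔ Wx V w) (fun D hD => ?_) hx ?_
  · exact sup_le (sup_le (Wx_le_kav D (hD (by simp))) (Wx_le_kav D (hD (by simp))))
      (Wx_le_kav D (hD (by simp)))
  · rintro w (rfl | rfl | rfl)
    · exact h1
    · exact h2
    · exact h3

end av

section

variable [FaithfulSMul H V] {p : ℕ} [Fact p.Prime] [Finite V] [Finite H]

theorem not_dvd_card (hb : Bin H V) (hp : ∀ v : V, p • v = 0) (h2 : ∀ v : V, v + v = 0 → v = 0) :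
    ¬ p ∣ Nat.card H := by
  intro hd
  obtain ⟨u, hu⟩ := exists_prime_orderOf_dvd_card' p hd
  have h1 := no_order_p hb hp h2 u (by rw [← hu]; exact pow_orderOf_eq_one u)
  rw [h1, orderOf_one] at hu
  exact (Fact.out (p := p.Prime)).one_lt.ne hu

/-- commuting distinct reflections -/
theorem com_iff (hb : Bin H V) (h2 : ∀ v : V, v + v = 0 → v = 0) {u v : H} (hu : IsRf V u)
    (hv : IsRf V v) : (v ≠ u ∧ u * v = v * u) ↔ Wx V u ≤ Fx V v := by
  constructor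
  · rintro ⟨h1, h3⟩ w hw
    exact mem_Fx.2 (comm_fix hb hv hu h1 h3.symm hw)
  · intro h
    obtain ⟨w, hw, hw0⟩ := exists_ne_of (Wx_ne_bot (V := V) hu.1)
    refine ⟨?_, (comm_of_fix hb hu hw0 hw (mem_Fx.1 (h hw))).symm⟩
    rintro rfl
    have : w ∈ Fx V v ⊓ Wx V v := ⟨h hw, hw⟩
    rw [Fx_inf_Wx_odd hb h2 hu] at this
    exact hw0 this

/-- the numerical context -/
structure Ctx (C : AddSubgroup V) (q : ℕ) : Prop where
  cardV : Nat.card C * q ^ 3 = Nat.card V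
  cardW : ∀ u ∈ RR (H := H) C, Nat.card (Wx V u) = q
  q2 : 2 ≤ q

variable {C : AddSubgroup V} {q : ℕ}

theorem Ctx.cardF (h : Ctx (H := H) C q) {u : H} (hu : u ∈ RR (H := H) C) :
    Nat.card (Fx V u) = Nat.card C * q ^ 2 := by
  have h1 := card_Fx_Wx (V := V) u
  rw [h.cardW u hu, ← h.cardV] at h1
  have hq : 0 < q := by have := h.q2; omega
  apply Nat.eq_of_mul_eq_mul_right hq
  rw [h1]; ring

theorem Ctx.cardP (h : Ctx (H := H) C q) (hb : Bin H V) (hp : ∀ v : V, p • v = 0)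
    (h2 : ∀ v : V, v + v = 0 → v = 0) {u v : H} (hu : u ∈ RR (H := H) C)
    (hv : v ∈ RR (H := H) C) (hne : u ≠ v) : Nat.card ↥(Fx V u ⊓ Fx V v) = Nat.card C * q := by
  have hq : 0 < q := by have := h.q2; omega
  have hC : 0 < Nat.card C := Nat.card_pos
  by_cases hc : u * v = v * u
  · have h1 := Fx_sup_odd hb h2 hu.1 hv.1 hne hc
    have h3 := card_sup_inf (Fx V u) (Fx V v)
    rw [h1, AddSubgroup.card_top, h.cardF hu, h.cardF hv, ← h.cardV] at h3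
    have h4 : 0 < Nat.card C * q ^ 3 := by positivity
    apply Nat.eq_of_mul_eq_mul_left h4
    rw [h3]; ring
  · have h1 := card_A hb hp hu.1 hv.1 hc
    rw [h.cardW u hu, ← h.cardV] at h1
    have h4 : 0 < q ^ 2 := by positivity
    apply Nat.eq_of_mul_eq_mul_right h4
    rw [h1]; ring

theorem RR_sub {M : AddSubgroup V} (hle : C ≤ M) : RR (H := H) M ⊆ RR (H := H) C :=
  fun _ ht => ⟨ht.1, hle.trans ht.2⟩

theorem le_P {u v : H} (hu : u ∈ RR (H := H) C) (hv : v ∈ RR (H := H) C) :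
    C ≤ Fx V u ⊓ Fx V v := le_inf hu.2 hv.2

/-- two distinct reflections over `P_uv` have intersection `P_uv`. -/
theorem Ctx.P_eq (h : Ctx (H := H) C q) (hb : Bin H V) (hp : ∀ v : V, p • v = 0)
    (h2 : ∀ v : V, v + v = 0 → v = 0) {u v : H} (hu : u ∈ RR (H := H) C)
    (hv : v ∈ RR (H := H) C) (hne : u ≠ v) {u' v' : H}
    (hu' : u' ∈ RR (H := H) (Fx V u ⊓ Fx V v)) (hv' : v' ∈ RR (H := H) (Fx V u ⊓ Fx V v))
    (hne' : u' ≠ v') : Fx V u ⊓ Fx V v = Fx V u' ⊓ Fx V v' := by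
  apply eq_of_card (le_inf hu'.2 hv'.2)
  rw [h.cardP hb hp h2 hu hv hne,
    h.cardP hb hp h2 (RR_sub (le_P hu hv) hu') (RR_sub (le_P hu hv) hv') hne']

theorem ncard_two_of {α : Type*} {S : Set α} {u v : α} (hu : u ∈ S) (hv : v ∈ S) (hne : u ≠ v)
    (h : ∀ w ∈ S, w = u ∨ w = v) : S.ncard = 2 := by
  have : S = {u, v} := by
    ext w
    constructor
    · intro hw
      rcases h w hw with rfl | rfl <;> simp
    · rintro (rfl | rfl)
      · exact hu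
      · exact hv
  rw [this, Set.ncard_pair hne]

theorem Ctx.a (h : Ctx (H := H) C q) (hb : Bin H V) (hp : ∀ v : V, p • v = 0)
    (h2 : ∀ v : V, v + v = 0 → v = 0) (hDS : ∀ r s : H, NC V r s → DS V r s) {u v : H}
    (hu : u ∈ RR (H := H) C) (hv : v ∈ RR (H := H) C) (hne : u ≠ v) :
    (RR (H := H) (Fx V u ⊓ Fx V v)).ncard = 2 ∨
      (RR (H := H) (Fx V u ⊓ Fx V v)).ncard = q + 1 := by
  by_cases hcom : ∃ r' ∈ RR (H := H) (Fx V u ⊓ Fx V v), ∃ s' ∈ RR (H := H) (Fx V u ⊓ Fx V v),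
      r' * s' ≠ s' * r'
  · obtain ⟨r', hr', s', hs', hnc⟩ := hcom
    right
    have hNC : NC V r' s' := ⟨hr'.1, hs'.1, hnc⟩
    rw [h.P_eq hb hp h2 hu hv hne hr' hs' hNC.ne, (hDS r' s' hNC).card,
      h.cardW r' (RR_sub (le_P hu hv) hr')]
  · left
    push Not at hcom
    refine ncard_two_of (u := u) (v := v) ⟨hu.1, inf_le_left⟩ ⟨hv.1, inf_le_right⟩ hne ?_
    intro w hw
    by_contra hcon
    push Not at hcon
    have c1 := hcom u ⟨hu.1, inf_le_left⟩ w hw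
    have c2 := hcom v ⟨hv.1, inf_le_right⟩ w hw
    obtain ⟨x, hx, hx0⟩ := exists_ne_of (Wx_ne_bot (V := V) hw.1.1)
    have e1 : x ∈ Fx V u := mem_Fx.2 (comm_fix hb hu.1 hw.1 (Ne.symm hcon.1) c1 hx)
    have e2 : x ∈ Fx V v := mem_Fx.2 (comm_fix hb hv.1 hw.1 (Ne.symm hcon.2) c2 hx)
    have e3 : x ∈ Fx V w ⊓ Wx V w := ⟨hw.2 ⟨e1, e2⟩, hx⟩
    rw [Fx_inf_Wx_odd hb h2 hw.1] at e3
    exact hx0 e3

/-- commuting partners -/
def Com (C : AddSubgroup V) (u : H) : Set H := {v | v ∈ RR (H := H) C ∧ Wx V u ≤ Fx V v}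

theorem mem_Com (hb : Bin H V) (h2 : ∀ v : V, v + v = 0 → v = 0) {u v : H}
    (hu : u ∈ RR (H := H) C) :
    v ∈ Com C u ↔ v ∈ RR (H := H) C ∧ v ≠ u ∧ u * v = v * u := by
  constructor
  · rintro ⟨h1, h3⟩
    exact ⟨h1, (com_iff hb h2 hu.1 h1.1).2 h3⟩
  · rintro ⟨h1, h3⟩
    exact ⟨h1, (com_iff hb h2 hu.1 h1.1).1 h3⟩

theorem Com_symm (hb : Bin H V) (h2 : ∀ v : V, v + v = 0 → v = 0) {u v : H}
    (hu : u ∈ RR (H := H) C) (hv : v ∈ Com C u) : u ∈ Com C v := by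
  obtain ⟨h1, h3, h4⟩ := (mem_Com hb h2 hu).1 hv
  exact (mem_Com hb h2 h1).2 ⟨hu, h3.symm, h4.symm⟩

theorem Ctx.cardCW (h : Ctx (H := H) C q) (hb : Bin H V) 
    (h2 : ∀ v : V, v + v = 0 → v = 0) {u : H} (hu : u ∈ RR (H := H) C) :
    Nat.card ↥(C ⊔ Wx V u) = Nat.card C * q := by
  rw [card_sup_of_disj, h.cardW u hu]
  rw [eq_bot_iff, ← Fx_inf_Wx_odd hb h2 hu.1]
  exact inf_le_inf hu.2 le_rfl

theorem Ctx.CW_eq (h : Ctx (H := H) C q) (hb : Bin H V) (hp : ∀ v : V, p • v = 0)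
    (h2 : ∀ v : V, v + v = 0 → v = 0) {u v w : H} (hu : u ∈ RR (H := H) C)
    (hv : v ∈ Com C u) (hw : w ∈ Com C u) (hne : v ≠ w) :
    C ⊔ Wx V u = Fx V v ⊓ Fx V w := by
  apply eq_of_card (sup_le (le_P hv.1 hw.1) (le_inf hv.2 hw.2))
  rw [h.cardCW hb h2 hu, h.cardP hb hp h2 hv.1 hw.1 hne]

theorem Ctx.b (h : Ctx (H := H) C q) (hb : Bin H V) (hp : ∀ v : V, p • v = 0)
    (h2 : ∀ v : V, v + v = 0 → v = 0) (hDS : ∀ r s : H, NC V r s → DS V r s) {u : H}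
    (hu : u ∈ RR (H := H) C) (hC : 2 ≤ (Com C u).ncard) :
    (Com C u).ncard = 2 ∨ (Com C u).ncard = q + 1 := by
  obtain ⟨v, hv, w, hw, hne⟩ := (Set.one_lt_ncard (Set.toFinite _)).1 hC
  have h1 : Com C u = RR (H := H) (Fx V v ⊓ Fx V w) := by
    rw [← h.CW_eq hb hp h2 hu hv hw hne]
    ext x
    constructor
    · rintro ⟨h3, h4⟩
      exact ⟨h3.1, sup_le h3.2 h4⟩
    · rintro ⟨h3, h4⟩
      exact ⟨⟨h3, le_sup_left.trans h4⟩, le_sup_right.trans h4⟩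
  rw [h1]
  exact h.a hb hp h2 hDS hv.1 hw.1 hne

theorem partner (hb : Bin H V) (h2 : ∀ v : V, v + v = 0 → v = 0) {a b u : H} (h : NC V a b)
    (hu : u ∈ RR (H := H) (Fx V a ⊓ Fx V b)) :
    ∃ u' ∈ RR (H := H) (Fx V a ⊓ Fx V b), u' ≠ u ∧ u * u' = u' * u := by
  obtain ⟨w, hw, hw0⟩ := exists_ne_of (Wx_ne_bot (V := V) hu.1.1)
  obtain ⟨u', hu', hwu⟩ := cover hb h w
  refine ⟨u', hu', ?_, (comm_of_fix hb hu.1 hw0 hw (mem_Fx.1 hwu)).symm⟩
  rintro rfl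
  have e3 : w ∈ Fx V u' ⊓ Wx V u' := ⟨hwu, hw⟩
  rw [Fx_inf_Wx_odd hb h2 hu.1] at e3
  exact hw0 e3

theorem Ctx.le_q (h : Ctx (H := H) C q) (hb : Bin H V) (hp : ∀ v : V, p • v = 0)
    (h2 : ∀ v : V, v + v = 0 → v = 0) (hDS : ∀ r s : H, NC V r s → DS V r s) {u v : H}
    (hu : u ∈ RR (H := H) C) (hv : v ∈ RR (H := H) C) (hne : u ≠ v) :
    (RR (H := H) (Fx V u ⊓ Fx V v) \ {u}).ncard ≤ q := by
  have h1 := Set.ncard_diff_singleton_add_one (s := RR (H := H) (Fx V u ⊓ Fx V v)) (a := u)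
    ⟨hu.1, inf_le_left⟩ (Set.toFinite _)
  have hq := h.q2
  rcases h.a hb hp h2 hDS hu hv hne with h3 | h3 <;> omega

theorem Ctx.c (h : Ctx (H := H) C q) (hb : Bin H V) (hp : ∀ v : V, p • v = 0)
    (h2 : ∀ v : V, v + v = 0 → v = 0) (hDS : ∀ r s : H, NC V r s → DS V r s) {u : H}
    (hu : u ∈ RR (H := H) C) :
    (RR (H := H) C).ncard ≤ 1 + q * (Com C u).ncard := by
  classical
  have hsub : RR (H := H) C \ {u} ⊆ ⋃ τ ∈ (Set.toFinite (Com C u)).toFinset,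
      (RR (H := H) (Fx V u ⊓ Fx V τ) \ {u}) := by
    rintro v ⟨hv, hvu⟩
    rw [Set.mem_singleton_iff] at hvu
    simp only [Set.mem_iUnion, Set.Finite.mem_toFinset, exists_prop]
    by_cases hc : u * v = v * u
    · exact ⟨v, (mem_Com hb h2 hu).2 ⟨hv, hvu, hc⟩, ⟨hv.1, inf_le_right⟩, hvu⟩
    · have hNC : NC V u v := ⟨hu.1, hv.1, hc⟩
      obtain ⟨τ, hτ, hτu, hτc⟩ := partner hb h2 hNC ⟨hu.1, inf_le_left⟩
      refine ⟨τ, (mem_Com hb h2 hu).2 ⟨RR_sub (le_P hu hv) hτ, hτu, hτc⟩, ?_, hvu⟩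
      rw [← h.P_eq hb hp h2 hu hv hNC.ne ⟨hu.1, inf_le_left⟩ hτ hτu.symm]
      exact ⟨hv.1, inf_le_right⟩
  have h1 := Set.ncard_diff_singleton_add_one (s := RR (H := H) C) (a := u) hu (Set.toFinite _)
  have h3 := Set.ncard_le_ncard hsub (Set.toFinite _)
  have h4 : (⋃ τ ∈ (Set.toFinite (Com C u)).toFinset,
      (RR (H := H) (Fx V u ⊓ Fx V τ) \ {u})).ncard ≤
      ∑ τ ∈ (Set.toFinite (Com C u)).toFinset, (RR (H := H) (Fx V u ⊓ Fx V τ) \ {u}).ncard := by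
    exact Finset.set_ncard_biUnion_le _ _
  have h5 : ∑ τ ∈ (Set.toFinite (Com C u)).toFinset,
      (RR (H := H) (Fx V u ⊓ Fx V τ) \ {u}).ncard ≤ (Com C u).ncard * q := by
    rw [Set.ncard_eq_toFinset_card, ← smul_eq_mul]
    apply Finset.sum_le_card_nsmul
    intro τ hτ
    rw [Set.Finite.mem_toFinset] at hτ
    obtain ⟨e1, e2, _⟩ := (mem_Com hb h2 hu).1 hτ
    exact h.le_q hb hp h2 hDS hu e1 e2.symm
  rw [mul_comm q]
  omega

/-- a set `RR P` with at least three elements contains a non-commuting pair -/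
theorem exists_nc (hb : Bin H V) (h2 : ∀ v : V, v + v = 0 → v = 0) {u v : H}
    (hu : IsRf V u) (hv : IsRf V v) (hne : u ≠ v)
    (h3 : 3 ≤ (RR (H := H) (Fx V u ⊓ Fx V v)).ncard) :
    ∃ r' ∈ RR (H := H) (Fx V u ⊓ Fx V v), ∃ s' ∈ RR (H := H) (Fx V u ⊓ Fx V v), NC V r' s' := by
  by_contra hcon
  push Not at hcon
  have hcom : ∀ r' ∈ RR (H := H) (Fx V u ⊓ Fx V v), ∀ s' ∈ RR (H := H) (Fx V u ⊓ Fx V v),
      r' * s' = s' * r' := by
    intro r' hr' s' hs'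
    by_contra hnc
    exact hcon r' hr' s' hs' ⟨hr'.1, hs'.1, hnc⟩
  have : (RR (H := H) (Fx V u ⊓ Fx V v)).ncard = 2 := by
    refine ncard_two_of (u := u) (v := v) ⟨hu, inf_le_left⟩ ⟨hv, inf_le_right⟩ hne ?_
    intro w hw
    by_contra hcon
    push Not at hcon
    have c1 := hcom u ⟨hu, inf_le_left⟩ w hw
    have c2 := hcom v ⟨hv, inf_le_right⟩ w hw
    obtain ⟨x, hx, hx0⟩ := exists_ne_of (Wx_ne_bot (V := V) hw.1.1)
    have e1 : x ∈ Fx V u := mem_Fx.2 (comm_fix hb hu hw.1 (Ne.symm hcon.1) c1 hx)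
    have e2 : x ∈ Fx V v := mem_Fx.2 (comm_fix hb hv hw.1 (Ne.symm hcon.2) c2 hx)
    have e3 : x ∈ Fx V w ⊓ Wx V w := ⟨hw.2 ⟨e1, e2⟩, hx⟩
    rw [Fx_inf_Wx_odd hb h2 hw.1] at e3
    exact hx0 e3
  omega

theorem Ctx.d (h : Ctx (H := H) C q) (hb : Bin H V) (hp : ∀ v : V, p • v = 0)
    (h2 : ∀ v : V, v + v = 0 → v = 0) (hDS : ∀ r s : H, NC V r s → DS V r s) {r s t : H}
    (h1 : NC V s r) (h2' : NC V s t) (hr : r ∈ RR (H := H) C) (hs : s ∈ RR (H := H) C)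
    (ht : t ∈ RR (H := H) C) (hAB : Fx V s ⊓ Fx V r ≠ Fx V s ⊓ Fx V t) :
    2 * q + 2 ≤ (RR (H := H) C).ncard := by
  have hq := h.q2
  have sA : s ∈ RR (H := H) (Fx V s ⊓ Fx V r) := ⟨hs.1, inf_le_left⟩
  have sB : s ∈ RR (H := H) (Fx V s ⊓ Fx V t) := ⟨hs.1, inf_le_left⟩
  have tB : t ∈ RR (H := H) (Fx V s ⊓ Fx V t) := ⟨ht.1, inf_le_right⟩
  have hPA : ∀ a ∈ RR (H := H) (Fx V s ⊓ Fx V r), ∀ a' ∈ RR (H := H) (Fx V s ⊓ Fx V r),
      a ≠ a' → Fx V s ⊓ Fx V r = Fx V a ⊓ Fx V a' :=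
    fun a ha a' ha' hne => h.P_eq hb hp h2 hs hr h1.ne ha ha' hne
  have hPB : ∀ a ∈ RR (H := H) (Fx V s ⊓ Fx V t), ∀ a' ∈ RR (H := H) (Fx V s ⊓ Fx V t),
      a ≠ a' → Fx V s ⊓ Fx V t = Fx V a ⊓ Fx V a' :=
    fun a ha a' ha' hne => h.P_eq hb hp h2 hs ht h2'.ne ha ha' hne
  have hint : ∀ w, w ∈ RR (H := H) (Fx V s ⊓ Fx V r) → w ∈ RR (H := H) (Fx V s ⊓ Fx V t) →
      w = s := by
    intro w hw1 hw2
    by_contra hne
    apply hAB
    rw [hPA w hw1 s sA hne, hPB w hw2 s sB hne]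
  have cA : (RR (H := H) (Fx V s ⊓ Fx V r)).ncard = q + 1 := by
    rw [(hDS s r h1).card, h.cardW s hs]
  have cB : (RR (H := H) (Fx V s ⊓ Fx V t)).ncard = q + 1 := by
    rw [(hDS s t h2').card, h.cardW s hs]
  obtain ⟨a, ha, b, hb', has, hbs, hnc⟩ : ∃ a ∈ RR (H := H) (Fx V s ⊓ Fx V r),
      ∃ b ∈ RR (H := H) (Fx V s ⊓ Fx V t), a ≠ s ∧ b ≠ s ∧ a * b ≠ b * a := by
    by_contra hcon
    push Not at hcon
    have c1 := Set.ncard_diff_singleton_add_one (s := RR (H := H) (Fx V s ⊓ Fx V r)) (a := s)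
      sA (Set.toFinite _)
    have c2 : 1 < (RR (H := H) (Fx V s ⊓ Fx V r) \ {s}).ncard := by omega
    obtain ⟨a, ⟨ha, has⟩, a', ⟨ha', has'⟩, hne⟩ := (Set.one_lt_ncard (Set.toFinite _)).1 c2
    rw [Set.mem_singleton_iff] at has has'
    have k1 : Wx V t ≤ Fx V a := (com_iff hb h2 ht.1 ha.1).1 ⟨fun e => has (hint a ha (e ▸ tB)),
      (hcon a ha t tB has h2'.ne.symm).symm⟩
    have k2 : Wx V t ≤ Fx V a' := (com_iff hb h2 ht.1 ha'.1).1
      ⟨fun e => has' (hint a' ha' (e ▸ tB)), (hcon a' ha' t tB has' h2'.ne.symm).symm⟩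
    have k3 : Wx V t ≤ Fx V s := by
      have := le_inf k1 k2
      rw [← hPA a ha a' ha' hne] at this
      exact this.trans inf_le_left
    exact h2'.nc ((com_iff hb h2 ht.1 hs.1).2 k3).2.symm
  have haC : a ∈ RR (H := H) C := RR_sub (le_P hs hr) ha
  have hbC : b ∈ RR (H := H) C := RR_sub (le_P hs ht) hb'
  have hNC : NC V a b := ⟨ha.1, hb'.1, hnc⟩
  have cP : (RR (H := H) (Fx V a ⊓ Fx V b)).ncard = q + 1 := by
    rw [(hDS a b hNC).card, h.cardW a haC]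
  obtain ⟨c, hc, hca, hcb⟩ : ∃ c ∈ RR (H := H) (Fx V a ⊓ Fx V b), c ≠ a ∧ c ≠ b := by
    by_contra hcon
    push Not at hcon
    have : (RR (H := H) (Fx V a ⊓ Fx V b)).ncard = 2 :=
      ncard_two_of (u := a) (v := b) ⟨ha.1, inf_le_left⟩ ⟨hb'.1, inf_le_right⟩ hNC.ne
        (fun w hw => by
          by_cases hwa : w = a
          · exact Or.inl hwa
          · exact Or.inr (hcon w hw hwa))
    omega
  have hcA : c ∉ RR (H := H) (Fx V s ⊓ Fx V r) := by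
    intro hcA
    apply hbs
    refine hint b ⟨hb'.1, ?_⟩ hb'
    rw [hPA c hcA a ha hca, ← h.P_eq hb hp h2 haC hbC hNC.ne hc ⟨ha.1, inf_le_left⟩ hca]
    exact inf_le_right
  have hcB : c ∉ RR (H := H) (Fx V s ⊓ Fx V t) := by
    intro hcB
    apply has
    refine hint a ha ⟨ha.1, ?_⟩
    rw [hPB c hcB b hb' hcb, ← h.P_eq hb hp h2 haC hbC hNC.ne hc ⟨hb'.1, inf_le_right⟩ hcb]
    exact inf_le_left
  have hun := Set.ncard_union_add_ncard_inter (RR (H := H) (Fx V s ⊓ Fx V r))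
    (RR (H := H) (Fx V s ⊓ Fx V t)) (Set.toFinite _) (Set.toFinite _)
  have hin : RR (H := H) (Fx V s ⊓ Fx V r) ∩ RR (H := H) (Fx V s ⊓ Fx V t) = {s} := by
    ext w
    constructor
    · rintro ⟨hw1, hw2⟩
      exact hint w hw1 hw2
    · rintro rfl
      exact ⟨sA, sB⟩
  rw [hin, Set.ncard_singleton, cA, cB] at hun
  have hcn : c ∉ RR (H := H) (Fx V s ⊓ Fx V r) ∪ RR (H := H) (Fx V s ⊓ Fx V t) := by
    rintro (hh | hh)
    · exact hcA hh
    · exact hcB hh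
  have h7 := Set.ncard_insert_of_notMem hcn (Set.toFinite _)
  have h8 : insert c (RR (H := H) (Fx V s ⊓ Fx V r) ∪ RR (H := H) (Fx V s ⊓ Fx V t)) ⊆
      RR (H := H) C := by
    intro w hw
    rcases Set.mem_insert_iff.1 hw with rfl | hw | hw
    · exact RR_sub (le_P haC hbC) hc
    · exact RR_sub (le_P hs hr) hw
    · exact RR_sub (le_P hs ht) hw
  have h9 := Set.ncard_le_ncard h8 (Set.toFinite _)
  omega

theorem Ctx.ComCard (h : Ctx (H := H) C q) (hb : Bin H V) (hp : ∀ v : V, p • v = 0)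
    (h2 : ∀ v : V, v + v = 0 → v = 0) (hDS : ∀ r s : H, NC V r s → DS V r s)
    (hR : 2 * q + 2 ≤ (RR (H := H) C).ncard) {u : H} (hu : u ∈ RR (H := H) C) :
    (Com C u).ncard = q + 1 ∧ 3 ≤ (Com C u).ncard := by
  have hq := h.q2
  have h1 := h.c hb hp h2 hDS hu
  have h3 : 3 ≤ (Com C u).ncard := by
    by_contra hlt
    have : (Com C u).ncard ≤ 2 := by omega
    have : q * (Com C u).ncard ≤ q * 2 := Nat.mul_le_mul_left _ this
    omega
  rcases h.b hb hp h2 hDS hu (by omega) with h4 | h4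
  · omega
  · exact ⟨h4, h3⟩

theorem Ctx.e (h : Ctx (H := H) C q) (hb : Bin H V) (hp : ∀ v : V, p • v = 0)
    (h2 : ∀ v : V, v + v = 0 → v = 0) (hDS : ∀ r s : H, NC V r s → DS V r s)
    (hR : 2 * q + 2 ≤ (RR (H := H) C).ncard) {u v : H} (hu : u ∈ RR (H := H) C)
    (hv : v ∈ RR (H := H) C) (hne : u ≠ v) : (Com C u ∩ Com C v).ncard = 1 := by
  have hH := not_dvd_card hb hp h2
  rw [Set.ncard_eq_one]
  obtain ⟨h3, h4⟩ := h.ComCard hb hp h2 hDS hR hu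
  -- existence
  have hex : ∃ τ, τ ∈ Com C u ∧ τ ∈ Com C v := by
    obtain ⟨x, hx, y, hy, hxy⟩ := (Set.one_lt_ncard (Set.toFinite _)).1
      (by omega : 1 < (Com C u).ncard)
    have e1 : Com C u = RR (H := H) (Fx V x ⊓ Fx V y) := by
      rw [← h.CW_eq hb hp h2 hu hx hy hxy]
      ext z
      constructor
      · rintro ⟨h3, h4⟩
        exact ⟨h3.1, sup_le h3.2 h4⟩
      · rintro ⟨h3, h4⟩
        exact ⟨⟨h3, le_sup_left.trans h4⟩, le_sup_right.trans h4⟩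
    rw [e1] at h4 ⊢
    obtain ⟨r', hr', s', hs', hNC⟩ := exists_nc hb h2 hx.1.1 hy.1.1 hxy h4
    rw [h.P_eq hb hp h2 hx.1 hy.1 hxy hr' hs' hNC.ne]
    rw [h.P_eq hb hp h2 hx.1 hy.1 hxy hr' hs' hNC.ne] at e1
    obtain ⟨w, hw, hw0⟩ := exists_ne_of (Wx_ne_bot (V := V) hv.1.1)
    obtain ⟨τ, hτ, hwτ⟩ := cover hb hNC w
    refine ⟨τ, hτ, ?_⟩
    rw [← e1] at hτ
    rw [mem_Com hb h2 hv]
    refine ⟨hτ.1, ?_, (comm_of_fix hb hv.1 hw0 hw (mem_Fx.1 hwτ)).symm⟩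
    rintro rfl
    have e3 : w ∈ Fx V τ ⊓ Wx V τ := ⟨hwτ, hw⟩
    rw [Fx_inf_Wx_odd hb h2 hv.1] at e3
    exact hw0 e3
  obtain ⟨τ, hτ1, hτ2⟩ := hex
  refine ⟨τ, ?_⟩
  ext τ'
  constructor
  · rintro ⟨hτ1', hτ2'⟩
    rw [Set.mem_singleton_iff]
    by_contra hne'
    have k1 := h.CW_eq hb hp h2 hu hτ1 hτ1' (Ne.symm hne')
    have k2 := h.CW_eq hb hp h2 hv hτ2 hτ2' (Ne.symm hne')
    have k3 : Wx V v ≤ C ⊔ Wx V u := by
      rw [k1, ← k2]; exact le_sup_right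
    obtain ⟨w, hw, hw0⟩ := exists_ne_of (Wx_ne_bot (V := V) hv.1.1)
    obtain ⟨c, hc, w', hw', hcw⟩ := AddSubgroup.mem_sup.1 (k3 hw)
    have k4 : c = 0 := by
      refine avz2 hH hp (u := u) (v := v) ?_ (hu.2 hc) (hv.2 hc)
      have : c = w - w' := by rw [← hcw]; abel
      rw [this]
      exact sub_mem (le_sup_right (a := Wx V u) hw) (le_sup_left (b := Wx V v) hw')
    rw [k4, zero_add] at hcw
    rw [hcw] at hw'
    exact hne (lemW hb hu.1 hv.1 hw0 hw' hw)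
  · rintro rfl
    exact ⟨hτ1, hτ2⟩

theorem Ctx.f (h : Ctx (H := H) C q) (hb : Bin H V) (hp : ∀ v : V, p • v = 0)
    (h2 : ∀ v : V, v + v = 0 → v = 0) (hDS : ∀ r s : H, NC V r s → DS V r s)
    (hR : 2 * q + 2 ≤ (RR (H := H) C).ncard) (hpq : p ∣ q) : False := by
  classical
  have hqz : (q : ZMod p) = 0 := (ZMod.natCast_eq_zero_iff q p).2 hpq
  have _ : Fintype (RR (H := H) C) := Fintype.ofFinite _
  set R := RR (H := H) C with hRdef
  let M : Matrix R R (ZMod p) := fun u v => if (v : H) ∈ Com C (u : H) then 1 else 0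
  let J : Matrix R R (ZMod p) := fun _ _ => 1
  have hcount : ∀ S : Set H, S ⊆ R → (∑ w : R, if (w : H) ∈ S then (1 : ZMod p) else 0) = S.ncard := by
    intro S hS
    rw [Finset.sum_ite, Finset.sum_const_zero, add_zero, Finset.sum_const, nsmul_eq_mul, mul_one]
    congr 1
    rw [← Set.ncard_coe_finset]
    rw [← Set.ncard_image_of_injective _ Subtype.val_injective]
    congr 1
    ext x
    constructor
    · rintro ⟨y, hy, rfl⟩
      simpa using hy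
    · intro hx
      exact ⟨⟨x, hS hx⟩, by simpa using hx, rfl⟩
  have hcom : ∀ u : R, Com C (u : H) ⊆ R := fun u w hw => hw.1
  have hMJ : M * J = J := by
    ext u v
    rw [Matrix.mul_apply]
    show (∑ w : R, (if (w : H) ∈ Com C (u : H) then (1 : ZMod p) else 0) * 1) = 1
    simp only [mul_one]
    rw [hcount _ (hcom u), (h.ComCard hb hp h2 hDS hR u.2).1]
    push_cast
    rw [hqz, zero_add]
  have hMM : M * M = J := by
    ext u v
    rw [Matrix.mul_apply]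
    show (∑ w : R, (if (w : H) ∈ Com C (u : H) then (1 : ZMod p) else 0) *
      (if (v : H) ∈ Com C (w : H) then (1 : ZMod p) else 0)) = 1
    have e1 : ∀ w : R, (if (w : H) ∈ Com C (u : H) then (1 : ZMod p) else 0) *
      (if (v : H) ∈ Com C (w : H) then (1 : ZMod p) else 0) =
      if (w : H) ∈ Com C (u : H) ∩ Com C (v : H) then 1 else 0 := by
      intro w
      have : (v : H) ∈ Com C (w : H) ↔ (w : H) ∈ Com C (v : H) :=
        ⟨fun hh => Com_symm hb h2 w.2 hh, fun hh => Com_symm hb h2 v.2 hh⟩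
      by_cases k1 : (w : H) ∈ Com C (u : H) <;> by_cases k2 : (w : H) ∈ Com C (v : H) <;>
        simp [this, k1, k2]
    have e0 : (∑ w : R, if (w : H) ∈ Com C (u : H) ∩ Com C (v : H) then (1 : ZMod p) else 0) =
        (Com C (u : H) ∩ Com C (v : H)).ncard := by
      convert hcount (Com C (u : H) ∩ Com C (v : H)) (fun x hx => hx.1.1)
    rw [Finset.sum_congr rfl (fun w _ => e1 w), e0]
    by_cases huv : u = v
    · subst huv
      rw [Set.inter_self, (h.ComCard hb hp h2 hDS hR u.2).1]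
      push_cast
      rw [hqz, zero_add]
    · rw [h.e hb hp h2 hDS hR u.2 v.2 (fun e => huv (Subtype.ext e))]
      simp
  have hpow : ∀ k : ℕ, M ^ (k + 2) = J := by
    intro k
    induction k with
    | zero => rw [zero_add, pow_two, hMM]
    | succ k ih => rw [show k + 1 + 2 = (k + 2) + 1 by ring, pow_succ', ih, hMJ]
  have htr := ZMod.trace_pow_card M
  obtain ⟨k, hk⟩ : ∃ k, p = k + 2 := ⟨p - 2, by
    have := (Fact.out (p := p.Prime)).two_le
    omega⟩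
  have htM : M.trace = 0 := by
    rw [Matrix.trace]
    apply Finset.sum_eq_zero
    intro u _
    show (if (u : H) ∈ Com C (u : H) then (1 : ZMod p) else 0) = 0
    rw [if_neg]
    intro hh
    exact ((mem_Com hb h2 u.2).1 hh).2.1 rfl
  have hJt : J.trace = (Fintype.card R : ZMod p) := by
    rw [Matrix.trace]
    show (∑ u : R, (1 : ZMod p)) = _
    simp
  have hMp : M ^ p = J := by
    have : ∀ n : ℕ, n = k + 2 → M ^ n = J := by
      rintro n rfl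
      exact hpow k
    exact this p hk
  rw [hMp, htM, hJt, zero_pow (Fact.out (p := p.Prime)).ne_zero] at htr
  have hJJ : J * J = J := by
    calc J * J = M ^ 2 * M ^ 2 := by rw [show M ^ 2 = J from hpow 0]
      _ = M ^ (2 + 2) := by rw [← pow_add]
      _ = J := hpow 2
  have hne : (RR (H := H) C).Nonempty := by
    rw [Set.nonempty_iff_ne_empty]
    intro e
    rw [hRdef, e, Set.ncard_empty] at hR
    omega
  obtain ⟨u, hu⟩ := hne
  have := congrFun (congrFun hJJ ⟨u, hu⟩) ⟨u, hu⟩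
  rw [Matrix.mul_apply] at this
  have e2 : (∑ w : R, J ⟨u, hu⟩ w * J w ⟨u, hu⟩) = (Fintype.card R : ZMod p) := by
    show (∑ w : R, (1 : ZMod p) * 1) = _
    simp
  rw [e2, htr] at this
  exact zero_ne_one this

theorem uniq_odd (hb : Bin H V) (hp : ∀ v : V, p • v = 0)
    (h2 : ∀ v : V, v + v = 0 → v = 0) (hDS : ∀ r s : H, NC V r s → DS V r s)
    {r s t : H} (h1 : NC V s r) (h2' : NC V s t) : Fx V s ⊓ Fx V r = Fx V s ⊓ Fx V t := by
  by_contra hAB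
  have hH := not_dvd_card hb hp h2
  set C := (Fx V s ⊓ Fx V r) ⊓ (Fx V s ⊓ Fx V t) with hC
  set q := Nat.card (Wx V s) with hq
  have hq2 : 2 ≤ q := two_le_card_Wx (V := V) h1.hr.1
  have cr : Nat.card (Wx V r) = q := card_Wx_eq hb h1.hr h1.hs h1.nc
  have ct : Nat.card (Wx V t) = q := card_Wx_eq hb h2'.hr h2'.hs h2'.nc
  have cA := card_A hb hp h1.hr h1.hs h1.nc
  have cB := card_A hb hp h2'.hr h2'.hs h2'.nc
  rw [← hq] at cA cB
  have htA : ¬ (Fx V s ⊓ Fx V r ≤ Fx V t) := by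
    intro hle
    apply hAB
    apply eq_of_card (le_inf inf_le_left hle)
    have : 0 < q ^ 2 := by positivity
    exact (Nat.eq_of_mul_eq_mul_right this (cB.trans cA.symm)).le
  have hWt : (Wx V s ⊔ Wx V r) ⊓ Wx V t = ⊥ := by
    rw [disj_iff]
    intro v hv1 hv2
    by_contra hv0
    obtain ⟨t', ht', hvt'⟩ := (hDS s r h1).wcover v hv1
    have := lemW hb ht'.1 h2'.hs hv0 hvt' hv2
    rw [this] at ht'
    exact htA ht'.2
  have c1 : Nat.card ↥((Wx V s ⊔ Wx V r) ⊔ Wx V t) = q ^ 3 := by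
    rw [card_sup_of_disj hWt, card_sup_of_disj (Wx_inf hb h1.hr h1.hs h1.ne), cr, ct, ← hq]
    ring
  have hCd : ((Wx V s ⊔ Wx V r) ⊔ Wx V t) ⊓ C = ⊥ := by
    rw [disj_iff]
    intro v hv1 hv2
    exact avz3 hH hp hv1 hv2.1.1 hv2.1.2 hv2.2.2
  have c2 : q ^ 3 * Nat.card C ≤ Nat.card V := by
    rw [← c1]; exact card_mul_le hCd
  have c3 := card_sup_inf (Fx V s ⊓ Fx V r) (Fx V s ⊓ Fx V t)
  have c4 : Nat.card ↥((Fx V s ⊓ Fx V r) ⊔ (Fx V s ⊓ Fx V t)) ≤ Nat.card (Fx V s) :=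
    card_le_of (sup_le inf_le_left inf_le_left)
  have c5 := card_Fx_Wx (V := V) s
  rw [← hq] at c5
  have hqpos : 0 < q := by omega
  have hVpos : 0 < Nat.card V := Nat.card_pos
  have cV : Nat.card C * q ^ 3 = Nat.card V := by
    apply le_antisymm
    · rw [mul_comm]; exact c2
    · have e1 : Nat.card V * Nat.card V ≤ Nat.card V * (Nat.card C * q ^ 3) := by
        calc Nat.card V * Nat.card V = (Nat.card ↥(Fx V s ⊓ Fx V r) * q ^ 2) *
              (Nat.card ↥(Fx V s ⊓ Fx V t) * q ^ 2) := by rw [cA, cB]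
          _ = (Nat.card ↥(Fx V s ⊓ Fx V r) * Nat.card ↥(Fx V s ⊓ Fx V t)) * q ^ 4 := by ring
          _ = (Nat.card ↥((Fx V s ⊓ Fx V r) ⊔ (Fx V s ⊓ Fx V t)) * Nat.card C) * q ^ 4 := by
            rw [← c3]
          _ ≤ (Nat.card (Fx V s) * Nat.card C) * q ^ 4 :=
            Nat.mul_le_mul_right _ (Nat.mul_le_mul_right _ c4)
          _ = (Nat.card (Fx V s) * q) * (Nat.card C * q ^ 3) := by ring
          _ = _ := by rw [c5]
      exact Nat.le_of_mul_le_mul_left e1 hVpos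
  have htop : ((Wx V s ⊔ Wx V r) ⊔ Wx V t) ⊔ C = ⊤ := by
    apply AddSubgroup.eq_top_of_card_eq
    rw [card_sup_of_disj hCd, c1, ← cV]; ring
  have hctx : Ctx (H := H) C q := by
    refine ⟨cV, ?_, hq2⟩
    intro u hu
    by_cases k1 : u * s = s * u
    · by_cases k2 : u * r = r * u
      · by_cases k3 : u * t = t * u
        · exfalso
          have n1 : u ≠ s := by rintro rfl; exact h1.nc k2
          have n2 : u ≠ r := by rintro rfl; exact h1.nc k1.symm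
          have n3 : u ≠ t := by rintro rfl; exact h2'.nc k1.symm
          have w1 : Wx V s ≤ Fx V u := fun w hw => mem_Fx.2 (comm_fix hb hu.1 h1.hr n1 k1 hw)
          have w2 : Wx V r ≤ Fx V u := fun w hw => mem_Fx.2 (comm_fix hb hu.1 h1.hs n2 k2 hw)
          have w3 : Wx V t ≤ Fx V u := fun w hw => mem_Fx.2 (comm_fix hb hu.1 h2'.hs n3 k3 hw)
          obtain ⟨x, hx⟩ := hu.1.exists_notMem
          apply hx
          have hle : ((Wx V s ⊔ Wx V r) ⊔ Wx V t) ⊔ C ≤ Fx V u :=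
            sup_le (sup_le (sup_le w1 w2) w3) hu.2
          rw [htop] at hle
          exact hle (AddSubgroup.mem_top x)
        · rw [← ct]
          exact card_Wx_eq hb h2'.hs hu.1 (fun e => k3 e.symm)
      · rw [← cr]
        exact card_Wx_eq hb h1.hs hu.1 (fun e => k2 e.symm)
    · exact card_Wx_eq hb h1.hr hu.1 (fun e => k1 e.symm)
  have hsC : s ∈ RR (H := H) C := ⟨h1.hr, inf_le_left.trans inf_le_left⟩
  have hrC : r ∈ RR (H := H) C := ⟨h1.hs, inf_le_left.trans inf_le_right⟩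
  have htC : t ∈ RR (H := H) C := ⟨h2'.hs, inf_le_right.trans inf_le_right⟩
  have hR := hctx.d hb hp h2 hDS h1 h2' hrC hsC htC hAB
  exact hctx.f hb hp h2 hDS hR (dvd_card hp (Wx_ne_bot (V := V) h1.hr.1))

end

end Cfsg.Agent.H14.BAOdd
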