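import Cfsg.Agent.H71.MtRel

set_option autoImplicit false
set_option linter.unusedSectionVars false

/-! S4351, piece P1 (`fix_one`): the space of `S`-fixed vectors is one dimensional. -/

namespace Cfsg.Agent.H14.MtP1

open Cfsg.Agent.H71.Mt

universe v

variable {X : Type*} [Group X] [Finite X] {F : Type} [Field F] [Fintype F] {θ : F ≃+* F} {S E K : Subgroup X}
  {w s0 : X} {a b κ : X → F}

theorem pgroup (D : SzD θ S E K w s0 a b κ) : IsPGroup 2 S := by
  intro s
  refine ⟨2, ?_⟩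
  apply Subtype.ext
  have h := D.Esq _ (D.Ssq (s : X) s.2)
  rw [Subgroup.coe_pow, Subgroup.coe_one]
  calc (s : X) ^ (2 ^ 2) = (s : X) * s * ((s : X) * s) := by
        rw [show (2 : ℕ) ^ 2 = 1 + 1 + 1 + 1 by norm_num, pow_succ, pow_succ, pow_succ, pow_one]; group
    _ = 1 := h

theorem exists_fix (D : SzD θ S E K w s0 a b κ) {V : Type v} [AddCommGroup V] [Module F V] [Finite V]
    (ρ : Representation F X V) (h0 : ∃ v : V, v ≠ 0) : ∃ v : V, v ≠ 0 ∧ ∀ s ∈ S, ρ s v = v := by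
  haveI := D.char
  letI : MulAction S V :=
    { smul := fun s v => ρ (s : X) v
      one_smul := fun v => by
        show ρ ((1 : S) : X) v = v
        rw [Subgroup.coe_one, map_one]; rfl
      mul_smul := fun s t v => by
        show ρ ((s * t : S) : X) v = ρ (s : X) (ρ (t : X) v)
        rw [Subgroup.coe_mul, map_mul]; rfl }
  have hsm : ∀ (s : S) (v : V), s • v = ρ (s : X) v := fun _ _ => rfl
  obtain ⟨v, hv⟩ := h0
  have h2 : 2 ∣ Nat.card V := by
    have h3 : addOrderOf v = 2 := addOrderOf_eq_prime (by rw [two_nsmul]; exact two_zero (F := F) v) hv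
    rw [← h3]; exact addOrderOf_dvd_natCard v
  obtain ⟨b, hb, hb0⟩ := (pgroup D).exists_fixed_point_of_prime_dvd_card_of_fixed_point V h2
    (a := 0) (fun s => by rw [hsm, map_zero])
  exact ⟨b, fun h => hb0 h.symm, fun s hs => hb ⟨s, hs⟩⟩

theorem κ_one' (D : SzD θ S E K w s0 a b κ) : κ 1 = 1 := by
  have h := D.κ_mul 1 K.one_mem 1 K.one_mem
  rw [mul_one] at h
  have h1 := D.κ_ne 1 K.one_mem
  exact (mul_right_cancel₀ h1 (by rw [one_mul]; exact h)).symm

theorem exists_eig (D : SzD θ S E K w s0 a b κ) {V : Type v} [AddCommGroup V] [Module F V] [Finite V]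
    (ρ : Representation F X V) (h0 : ∃ v : V, v ≠ 0) :
    ∃ u : V, u ≠ 0 ∧ (∀ s ∈ S, ρ s u = u) ∧ ∀ k ∈ K, ∃ c : F, ρ k u = c • u := by
  classical
  haveI := D.char
  obtain ⟨v, hv, hvs⟩ := exists_fix D ρ h0
  haveI : Fintype K := Fintype.ofFinite K
  let e : ℕ → V := fun i => ∑ k : K, (κ ((k : X)⁻¹)) ^ i • ρ (k : X) v
  have heig : ∀ i, ∀ l ∈ K, ρ l (e i) = (κ l) ^ i • e i := by
    intro i l hl
    show ρ l (∑ k : K, (κ ((k : X)⁻¹)) ^ i • ρ (k : X) v) = (κ l) ^ i • ∑ k : K, (κ ((k : X)⁻¹)) ^ i • ρ (k : X) v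
    rw [map_sum, Finset.smul_sum]
    refine Fintype.sum_equiv (Equiv.mulLeft (⟨l, hl⟩ : K)) _ _ fun k => ?_
    show ρ l ((κ ((k : X)⁻¹)) ^ i • ρ (k : X) v) =
      (κ l) ^ i • (κ ((((⟨l, hl⟩ : K) * k : K) : X)⁻¹)) ^ i • ρ (((⟨l, hl⟩ : K) * k : K) : X) v
    rw [Subgroup.coe_mul]
    have h1 : κ ((k : X)⁻¹) = κ l * κ ((l * (k : X))⁻¹) := by
      rw [← D.κ_mul l hl _ (K.inv_mem (K.mul_mem hl k.2))]
      congr 1
      rw [D.Kcomm l hl _ (K.inv_mem (K.mul_mem hl k.2))]
      group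
    rw [map_smul, smul_smul, ← mul_pow, ← h1, map_mul]
    rfl
  have hfix : ∀ i, ∀ s ∈ S, ρ s (e i) = e i := by
    intro i s hs
    show ρ s (∑ k : K, (κ ((k : X)⁻¹)) ^ i • ρ (k : X) v) = ∑ k : K, (κ ((k : X)⁻¹)) ^ i • ρ (k : X) v
    rw [map_sum]
    refine Finset.sum_congr rfl fun k _ => ?_
    rw [map_smul]
    congr 1
    have h1 : (k : X)⁻¹ * s * k ∈ S := by
      have := D.KS ((k : X)⁻¹) (K.inv_mem k.2) s hs
      rwa [inv_inv] at this
    have h3 : s * (k : X) = k * ((k : X)⁻¹ * s * k) := by group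
    calc ρ s (ρ (k : X) v) = ρ (s * (k : X)) v := by rw [map_mul]; rfl
      _ = ρ (k : X) (ρ ((k : X)⁻¹ * s * k) v) := by rw [h3, map_mul]; rfl
      _ = ρ (k : X) v := by rw [hvs _ h1]
  have hq : 1 ≤ Fintype.card F := Fintype.card_pos
  have hsum : ∑ i ∈ Finset.range (Fintype.card F - 1), e i = ((Fintype.card F - 1 : ℕ) : F) • v := by
    show ∑ i ∈ Finset.range (Fintype.card F - 1), ∑ k : K, (κ ((k : X)⁻¹)) ^ i • ρ (k : X) v = _
    rw [Finset.sum_comm, Finset.sum_eq_single (1 : K)]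
    · rw [← Finset.sum_smul]
      simp [κ_one' D]
    · intro k _ hk
      rw [← Finset.sum_smul]
      have h1 : κ ((k : X)⁻¹) ≠ 1 := by
        intro h
        apply hk
        apply Subtype.ext
        have := D.κ_one _ (K.inv_mem k.2) h
        exact inv_eq_one.1 this
      rw [geom_sum_eq h1, FiniteField.pow_card_sub_one_eq_one _ (D.κ_ne _ (K.inv_mem k.2)), sub_self,
        zero_div, zero_smul]
    · intro h; exact absurd (Finset.mem_univ _) h
  have hne : ∃ i, e i ≠ 0 := by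
    by_contra hcon
    push Not at hcon
    rw [Finset.sum_eq_zero fun i _ => hcon i, Nat.cast_sub hq, FiniteField.cast_card_eq_zero] at hsum
    have h1 : v = 0 := by
      have h2 : (0 : V) = -v := by rw [hsum]; simp
      rw [← neg_neg v, ← h2, neg_zero]
    exact hv h1
  obtain ⟨i, hi⟩ := hne
  exact ⟨e i, hi, hfix i, fun k hk => ⟨_, heig i k hk⟩⟩

theorem keyA (D : SzD θ S E K w s0 a b κ) {V : Type v} [AddCommGroup V] [Module F V] [Finite V]
    (ρ : Representation F X V) (hf : FpfF ρ) (hi : IrrF ρ) :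
    ∃ y : V, ∀ g : V →ₗ[F] F, (∀ s ∈ S, ∀ v, g (ρ s v) = g v) → g y = 0 → g = 0 := by
  haveI := D.char
  obtain ⟨u, hu, hus, huk⟩ := exists_eig D ρ hi.1
  refine ⟨ρ w u, fun g hg hgy => ?_⟩
  have hmul : ∀ (x y : X) (v : V), ρ (x * y) v = ρ x (ρ y v) := by
    intro x y v; rw [map_mul]; rfl
  have hgu : g u = 0 := by
    rw [← D.relF ρ hf u (hus s0 D.s0S)]
    have h2 : s0 * s0 ∈ S := S.mul_mem D.s0S D.s0S
    rw [map_add, map_add, map_add, hg s0 D.s0S, hg _ h2, hg _ (S.mul_mem h2 D.s0S), hgy]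
    simp
  let W : Submodule F V :=
    { carrier := {v | ∀ x : X, g (ρ x v) = 0}
      zero_mem' := by intro x; rw [map_zero, map_zero]
      add_mem' := by
        intro p q hp hq x
        rw [map_add, map_add, hp x, hq x, add_zero]
      smul_mem' := by
        intro c p hp x
        rw [map_smul, map_smul, hp x, smul_zero] }
  have huW : u ∈ W := by
    intro x
    rcases D.bruhat x with ⟨s, hs, k, hk, rfl⟩ | ⟨s, hs, k, hk, r, hr, rfl⟩
    · obtain ⟨c, hc⟩ := huk k hk
      rw [hmul, hg s hs, hc, map_smul, hgu, smul_zero]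
    · obtain ⟨c, hc⟩ := huk k⁻¹ (K.inv_mem hk)
      have hwk : k * w = w * k⁻¹ := by
        have h3 := D.wK k hk
        rw [← h3, ← mul_assoc, ← mul_assoc, D.ww, one_mul]
      rw [mul_assoc s k w, hmul, hus r hr, hmul, hg s hs, hwk, hmul, hc, map_smul, map_smul, hgy, smul_zero]
  rcases hi.2 W (fun y v hv x => by rw [← hmul]; exact hv (x * y)) with h | h
  · exfalso
    rw [h] at huW
    exact hu huW
  · ext v
    have hv : v ∈ W := by rw [h]; trivial
    have := hv 1
    rw [map_one] at this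
    exact this

/-- [P1] -/
theorem fix_one (D : SzD θ S E K w s0 a b κ) {V : Type v} [AddCommGroup V] [Module F V] [Finite V]
    (ρ : Representation F X V) (hf : FpfF ρ) (hi : IrrF ρ) :
    ∃ u : V, u ≠ 0 ∧ (∀ s ∈ S, ρ s u = u) ∧ ∀ v : V, (∀ s ∈ S, ρ s v = v) → ∃ c : F, v = c • u := by
  haveI := D.char
  obtain ⟨u, hu, hus⟩ := exists_fix D ρ hi.1
  have hinv : ∀ (x : X) (v : V), ρ x v = v → ρ x⁻¹ v = v := by
    intro x v h
    have h1 : ρ (x⁻¹ * x) v = ρ x⁻¹ (ρ x v) := by rw [map_mul]; rfl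
    rw [inv_mul_cancel, map_one, h] at h1
    exact h1.symm
  have hd : ∀ (x : X) (f : Module.Dual F V) (v : V), ρ.dual x f v = f (ρ x⁻¹ v) := fun _ _ _ => rfl
  haveI : Finite (Module.Dual F V) :=
    Finite.of_injective (fun f : Module.Dual F V => (f : V → F)) DFunLike.coe_injective
  have hfd : FpfF ρ.dual := by
    intro x hx hx1 f hfx
    have hodd : Odd (orderOf x⁻¹) := by rw [orderOf_inv]; exact hx
    have hinj : Function.Injective fun v : V => ρ x⁻¹ v - v := by
      intro p q hpq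
      have hpq : ρ x⁻¹ p - p = ρ x⁻¹ q - q := hpq
      have h1 : ρ x⁻¹ (p - q) = p - q := by
        rw [map_sub]
        have : ρ x⁻¹ p - p + p - ρ x⁻¹ q = ρ x⁻¹ q - q + p - ρ x⁻¹ q := by rw [hpq]
        calc ρ x⁻¹ p - ρ x⁻¹ q = ρ x⁻¹ p - p + p - ρ x⁻¹ q := by abel
          _ = ρ x⁻¹ q - q + p - ρ x⁻¹ q := this
          _ = p - q := by abel
      exact sub_eq_zero.1 (hf x⁻¹ hodd (inv_ne_one.2 hx1) _ h1)
    have hsurj := Finite.surjective_of_injective hinj
    ext v
    obtain ⟨z, hz⟩ := hsurj v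
    have hz : ρ x⁻¹ z - z = v := hz
    rw [← hz, map_sub, ← hd, hfx, sub_self]
    rfl
  have hid : IrrF ρ.dual := by
    constructor
    · by_contra hcon
      push Not at hcon
      exact hu ((Module.forall_dual_apply_eq_zero_iff F u).1 fun f => by rw [hcon f]; rfl)
    · intro W hW
      have hC : ∀ g : X, ∀ v ∈ W.dualCoannihilator, ρ g v ∈ W.dualCoannihilator := by
        intro g v hv
        rw [Submodule.mem_dualCoannihilator] at hv ⊢
        intro f hfW
        have := hv _ (hW g⁻¹ f hfW)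
        rw [hd, inv_inv] at this
        exact this
      rcases hi.2 _ hC with h | h
      · right
        rw [← Subspace.dualCoannihilator_dualAnnihilator_eq (W := W), h, Submodule.dualAnnihilator_bot]
      · left
        rw [← Subspace.dualCoannihilator_dualAnnihilator_eq (W := W), h, Submodule.dualAnnihilator_top]
  obtain ⟨y, hy⟩ := keyA D ρ.dual hfd hid
  have key : ∀ v : V, (∀ s ∈ S, ρ s v = v) → y v = 0 → v = 0 := by
    intro v hv hyv
    have h1 := hy (Module.Dual.eval F V v) (fun s hs f => by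
      show f (ρ s⁻¹ v) = f v
      rw [hinv s v (hv s hs)]) hyv
    exact (Module.forall_dual_apply_eq_zero_iff F v).1 fun f => LinearMap.congr_fun h1 f
  have hyu : y u ≠ 0 := fun h => hu (key u hus h)
  refine ⟨u, hu, hus, fun v hv => ⟨y v / y u, ?_⟩⟩
  refine sub_eq_zero.1 (key _ (fun s hs => ?_) ?_)
  · rw [map_sub, map_smul, hv s hs, hus s hs]
  · rw [map_sub, map_smul, smul_eq_mul, div_mul_cancel₀ _ hyu, sub_self]

end Cfsg.Agent.H14.MtP1
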