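import Cfsg.Prelude.Def_ClassicalGeometry
import Mathlib

/-! Orthogonal groups: basic formulas for the reflection and Siegel matrices of a quadratic form
on `ι → F`, and reflections as elements of `isometryGroup`. -/

set_option autoImplicit false

namespace Cfsg.Agent.H14.Ortho

open Matrix QuadraticMap

variable {F : Type*} [Field F] {ι : Type} [Fintype ι] [DecidableEq ι]

theorem polarVec_dot (Q : QuadraticForm F (ι → F)) (v x : ι → F) :
    Cfsg.polarVec ⇑Q v ⬝ᵥ x = polar ⇑Q v x := by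
  have h : polar ⇑Q v x = polarBilin Q v x := rfl
  have hx : x = ∑ i, x i • (Pi.single i (1 : F) : ι → F) := by
    funext j
    simp [Finset.sum_apply, Pi.single_apply]
  rw [h]
  conv_rhs => rw [hx]
  rw [map_sum]
  simp only [map_smul, smul_eq_mul, dotProduct, Cfsg.polarVec]
  refine Finset.sum_congr rfl fun i _ => ?_
  rw [mul_comm]; rfl

omit [DecidableEq ι] in
theorem vecMulVec_mulVec' (v w x : ι → F) : (vecMulVec v w) *ᵥ x = (w ⬝ᵥ x) • v := by
  funext i
  simp [mulVec, dotProduct, vecMulVec_apply, Finset.mul_sum, mul_comm, mul_left_comm]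

theorem reflectionMatrix_mulVec (Q : QuadraticForm F (ι → F)) (v x : ι → F) :
    Cfsg.reflectionMatrix ⇑Q v *ᵥ x = x - ((Q v)⁻¹ * polar ⇑Q v x) • v := by
  rw [Cfsg.reflectionMatrix, sub_mulVec, one_mulVec, smul_mulVec, vecMulVec_mulVec', polarVec_dot,
    smul_smul]

theorem siegelMatrix_mulVec (Q : QuadraticForm F (ι → F)) (u v : ι → F) (c : F) (x : ι → F) :
    Cfsg.siegelMatrix ⇑Q u v c *ᵥ x = x + c • (polar ⇑Q u x • v - polar ⇑Q v x • u) := by
  rw [Cfsg.siegelMatrix, add_mulVec, one_mulVec, smul_mulVec, sub_mulVec, vecMulVec_mulVec',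
    vecMulVec_mulVec', polarVec_dot, polarVec_dot]

/-- membership in the isometry group, in terms of `mulVec`. -/
theorem mem_isometryGroup {Q : (ι → F) → F} {g : GeneralLinearGroup ι F} :
    g ∈ Cfsg.isometryGroup F Q ↔ ∀ x, Q ((g : Matrix ι ι F) *ᵥ x) = Q x := by
  constructor
  · intro h x
    exact h x x
  · intro h u _
    exact h u

theorem Q_mulVec {Q : (ι → F) → F} (g : ↥(Cfsg.isometryGroup F Q)) (x : ι → F) :
    Q (((g : GeneralLinearGroup ι F) : Matrix ι ι F) *ᵥ x) = Q x :=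
  mem_isometryGroup.1 g.2 x

theorem polar_mulVec (Q : QuadraticForm F (ι → F)) (g : ↥(Cfsg.isometryGroup F ⇑Q)) (x y : ι → F) :
    polar ⇑Q (((g : GeneralLinearGroup ι F) : Matrix ι ι F) *ᵥ x)
      (((g : GeneralLinearGroup ι F) : Matrix ι ι F) *ᵥ y) = polar ⇑Q x y := by
  have h := fun z => Q_mulVec (Q := ⇑Q) g z
  simp only [polar]
  rw [← mulVec_add, h, h, h]

theorem ext_mulVec {A B : Matrix ι ι F} (h : ∀ x, A *ᵥ x = B *ᵥ x) : A = B := by
  apply Matrix.ext_of_mulVec_single
  intro i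
  exact h _

end Cfsg.Agent.H14.Ortho
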