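import Cfsg.Agent.H14.Ortho

/-! Reflections as elements of `isometryGroup`, in any characteristic. -/

set_option autoImplicit false

namespace Cfsg.Agent.H14.Ortho

open Matrix QuadraticMap

variable {F : Type*} [Field F] {ι : Type} [Fintype ι] [DecidableEq ι]

omit [Fintype ι] [DecidableEq ι] in
theorem polar_self' (Q : QuadraticForm F (ι → F)) (v : ι → F) :
    polar ⇑Q v v = 2 * Q v := by
  rw [QuadraticMap.polar_self]; simp

theorem reflectionMatrix_mul_self (Q : QuadraticForm F (ι → F)) (v : ι → F) (hv : Q v ≠ 0) :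
    Cfsg.reflectionMatrix ⇑Q v * Cfsg.reflectionMatrix ⇑Q v = 1 := by
  apply ext_mulVec
  intro x
  rw [← mulVec_mulVec, reflectionMatrix_mulVec, reflectionMatrix_mulVec, one_mulVec]
  have h : polar ⇑Q v (x - ((Q v)⁻¹ * polar ⇑Q v x) • v) = - polar ⇑Q v x := by
    rw [sub_eq_add_neg, QuadraticMap.polar_add_right, QuadraticMap.polar_neg_right,
      QuadraticMap.polar_smul_right, polar_self']
    simp only [smul_eq_mul]
    field_simp
    ring
  rw [h]
  simp only [mul_neg, neg_smul]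
  abel

omit [Fintype ι] [DecidableEq ι] in
theorem Q_reflection (Q : QuadraticForm F (ι → F)) (v x : ι → F) (hv : Q v ≠ 0) :
    Q (x - ((Q v)⁻¹ * polar ⇑Q v x) • v) = Q x := by
  rw [sub_eq_add_neg, ← neg_smul, QuadraticMap.map_add ⇑Q, QuadraticMap.map_smul,
    QuadraticMap.polar_smul_right, QuadraticMap.polar_comm _ x v]
  simp only [smul_eq_mul]
  field_simp
  ring

/-- the reflection in `v` as an isometry -/
noncomputable def refl (Q : QuadraticForm F (ι → F)) (v : ι → F) (hv : Q v ≠ 0) :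
    ↥(Cfsg.isometryGroup F ⇑Q) :=
  ⟨⟨Cfsg.reflectionMatrix ⇑Q v, Cfsg.reflectionMatrix ⇑Q v, reflectionMatrix_mul_self Q v hv,
    reflectionMatrix_mul_self Q v hv⟩, mem_isometryGroup.2 fun x => by
      change Q (Cfsg.reflectionMatrix ⇑Q v *ᵥ x) = Q x
      rw [reflectionMatrix_mulVec]; exact Q_reflection Q v x hv⟩

theorem refl_coe (Q : QuadraticForm F (ι → F)) (v : ι → F) (hv : Q v ≠ 0) :
    ((refl Q v hv : GeneralLinearGroup ι F) : Matrix ι ι F) = Cfsg.reflectionMatrix ⇑Q v := rfl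

theorem refl_mulVec (Q : QuadraticForm F (ι → F)) (v : ι → F) (hv : Q v ≠ 0) (x : ι → F) :
    ((refl Q v hv : GeneralLinearGroup ι F) : Matrix ι ι F) *ᵥ x =
      x - ((Q v)⁻¹ * polar ⇑Q v x) • v := by
  rw [refl_coe, reflectionMatrix_mulVec]

theorem refl_mul_self (Q : QuadraticForm F (ι → F)) (v : ι → F) (hv : Q v ≠ 0) :
    refl Q v hv * refl Q v hv = 1 := by
  apply Subtype.ext
  apply Units.ext
  exact reflectionMatrix_mul_self Q v hv

theorem iso_ext {Q : (ι → F) → F} {g h : ↥(Cfsg.isometryGroup F Q)}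
    (hgh : ∀ x, ((g : GeneralLinearGroup ι F) : Matrix ι ι F) *ᵥ x =
      ((h : GeneralLinearGroup ι F) : Matrix ι ι F) *ᵥ x) : g = h := by
  apply Subtype.ext
  apply Units.ext
  exact ext_mulVec hgh

theorem coe_mul_mulVec {Q : (ι → F) → F} (g h : ↥(Cfsg.isometryGroup F Q)) (x : ι → F) :
    (((g * h : ↥(Cfsg.isometryGroup F Q)) : GeneralLinearGroup ι F) : Matrix ι ι F) *ᵥ x =
      ((g : GeneralLinearGroup ι F) : Matrix ι ι F) *ᵥ
        (((h : GeneralLinearGroup ι F) : Matrix ι ι F) *ᵥ x) := by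
  rw [mulVec_mulVec]; rfl

omit [Fintype ι] [DecidableEq ι] in
/-- nondegeneracy of the polar form: separate vectors. -/
theorem exists_polar_ne_zero {Q : QuadraticForm F (ι → F)}
    (hQ : (QuadraticMap.polarBilin Q).Nondegenerate) {u : ι → F} (hu : u ≠ 0) :
    ∃ x, polar ⇑Q u x ≠ 0 := by
  by_contra hcon
  push Not at hcon
  exact hu (hQ.1 u hcon)

omit [Fintype ι] [DecidableEq ι] in
/-- if `u, v` are not proportional there is `x` with `f(u,x)=0`, `f(v,x)=1`. -/
theorem exists_polar_zero_one {Q : QuadraticForm F (ι → F)}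
    (hQ : (QuadraticMap.polarBilin Q).Nondegenerate) {u v : ι → F}
    (huv : ∀ c : F, v ≠ c • u) :
    ∃ x, polar ⇑Q u x = 0 ∧ polar ⇑Q v x = 1 := by
  have key : ∃ x, polar ⇑Q u x = 0 ∧ polar ⇑Q v x ≠ 0 := by
    by_cases hu : u = 0
    · subst hu
      have hv : v ≠ 0 := by
        intro h
        exact huv 0 (by simp [h])
      obtain ⟨x, hx⟩ := exists_polar_ne_zero hQ hv
      exact ⟨x, by rw [QuadraticMap.polar_zero_left], hx⟩
    · obtain ⟨x0, hx0⟩ := exists_polar_ne_zero hQ hu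
      by_contra hcon
      push Not at hcon
      apply huv ((polar ⇑Q v x0) / (polar ⇑Q u x0))
      rw [← sub_eq_zero]
      apply hQ.1
      intro x
      change polar ⇑Q (v - (polar ⇑Q v x0 / polar ⇑Q u x0) • u) x = 0
      have h1 := hcon (x - (polar ⇑Q u x / polar ⇑Q u x0) • x0) (by
        rw [QuadraticMap.polar_sub_right, QuadraticMap.polar_smul_right, smul_eq_mul]
        field_simp
        ring)
      rw [QuadraticMap.polar_sub_right, QuadraticMap.polar_smul_right, smul_eq_mul] at h1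
      rw [QuadraticMap.polar_sub_left, QuadraticMap.polar_smul_left, smul_eq_mul]
      have : polar ⇑Q v x = polar ⇑Q u x / polar ⇑Q u x0 * polar ⇑Q v x0 := sub_eq_zero.1 h1
      rw [this]
      ring
  obtain ⟨x, hx0, hx1⟩ := key
  refine ⟨(polar ⇑Q v x)⁻¹ • x, ?_, ?_⟩
  · rw [QuadraticMap.polar_smul_right, hx0, smul_zero]
  · rw [QuadraticMap.polar_smul_right, smul_eq_mul, inv_mul_cancel₀ hx1]

end Cfsg.Agent.H14.Ortho
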