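import Cfsg.Prelude.Def_ClassicalGeometry
import Cfsg.Agent.H14.Ortho
import Mathlib

/-! Transport of isometry groups along an isomorphism of fields, and `ZMod p` models. -/

set_option autoImplicit false

namespace Cfsg.Agent.H14.Transport

open Matrix Cfsg.Agent.H14.Ortho

variable {F K : Type*} [Field F] [Field K] {ι : Type} [Fintype ι] [DecidableEq ι]

/-- entrywise isomorphism of general linear groups -/
noncomputable def glEquiv (e : F ≃+* K) : GeneralLinearGroup ι F ≃* GeneralLinearGroup ι K :=
  Units.mapEquiv (e.mapMatrix (m := ι)).toMulEquiv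

theorem glEquiv_coe (e : F ≃+* K) (g : GeneralLinearGroup ι F) :
    ((glEquiv e g : GeneralLinearGroup ι K) : Matrix ι ι K) = (g : Matrix ι ι F).map e := rfl

theorem glEquiv_mulVec (e : F ≃+* K) (g : GeneralLinearGroup ι F) (v : ι → F) :
    ((glEquiv e g : GeneralLinearGroup ι K) : Matrix ι ι K) *ᵥ (fun i => e (v i)) =
      fun i => e (((g : Matrix ι ι F) *ᵥ v) i) := by
  rw [glEquiv_coe]
  funext i
  simp [mulVec, dotProduct, map_sum, map_mul]

/-- isometry groups correspond under an isomorphism of fields -/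
noncomputable def isometryEquiv (e : F ≃+* K) (Q : (ι → F) → F) (Q' : (ι → K) → K)
    (h : ∀ v, e (Q v) = Q' (fun i => e (v i))) :
    ↥(Cfsg.isometryGroup F Q) ≃* ↥(Cfsg.isometryGroup K Q') :=
  ((glEquiv (ι := ι) e).subgroupMap (Cfsg.isometryGroup F Q)).trans
    (MulEquiv.subgroupCongr (by
      ext g
      constructor
      · rintro ⟨g, hg, rfl⟩
        rw [mem_isometryGroup]
        intro x
        obtain ⟨v, rfl⟩ : ∃ v : ι → F, x = fun i => e (v i) := ⟨fun i => e.symm (x i), by simp⟩
        have h1 : (((glEquiv e).toMonoidHom g : GeneralLinearGroup ι K) : Matrix ι ι K) *ᵥ (fun i => e (v i)) =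
          fun i => e (((g : Matrix ι ι F) *ᵥ v) i) := glEquiv_mulVec e g v
        refine (congrArg Q' h1).trans ?_
        rw [← h, ← h, (mem_isometryGroup.1 hg v)]
      · intro hg
        refine ⟨(glEquiv e).symm g, ?_, (glEquiv e).apply_symm_apply g⟩
        change (glEquiv e).symm g ∈ Cfsg.isometryGroup F Q
        rw [mem_isometryGroup]
        intro v
        apply e.injective
        rw [h, h]
        have h1 := glEquiv_mulVec e ((glEquiv e).symm g) v
        rw [(glEquiv e).apply_symm_apply] at h1
        rw [← h1]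
        exact mem_isometryGroup.1 hg _))

theorem isometryEquiv_coe (e : F ≃+* K) (Q : (ι → F) → F) (Q' : (ι → K) → K)
    (h : ∀ v, e (Q v) = Q' (fun i => e (v i))) (g : ↥(Cfsg.isometryGroup F Q)) :
    (((isometryEquiv e Q Q' h g : ↥(Cfsg.isometryGroup K Q')) : GeneralLinearGroup ι K) :
      Matrix ι ι K) = ((g : GeneralLinearGroup ι F) : Matrix ι ι F).map e := rfl

end Cfsg.Agent.H14.Transport
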