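import Cfsg.Agent.H14.ClassMul
import Cfsg.Agent.Coh.Extend
import Cfsg.Agent.Char.Induced
import Cfsg.Agent.Char.BrauerInduction
import Cfsg.Agent.Char.Linear

/-! The generalized character `(1 - μ)^G` for a linear character `μ` of a subgroup `C` of index two
in `N`, inverted by `N`, such that the elements moved by `μ` are only fused inside `N`. -/

set_option autoImplicit false
set_option linter.unusedSectionVars false

namespace Cfsg.Agent.H14

open scoped ComplexConjugate
open Cfsg Cfsg.Agent.CharBase Cfsg.Agent.Char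

universe u

/-- The data `C < N`, `|N : C| = 2`, `μ` a linear character of `C` inverted by `N \ C`. -/
structure TI2 (G : Type u) [Group G] where
  N : Subgroup G
  C : Subgroup G
  hCN : C ≤ N
  s : G
  hs : s ∈ N
  hsC : ∀ x : G, ¬ (x ∈ C ∧ s⁻¹ * x ∈ C)
  hN : ∀ x ∈ N, x ∈ C ∨ s⁻¹ * x ∈ C
  mu : C →* ℂ
  hmu : ∀ y : C, mu y * conj (mu y) = 1
  hinv : ∀ x : G, s⁻¹ * x ∈ C → ∀ g : C, ∃ h : x⁻¹ * g * x ∈ C, mu ⟨_, h⟩ = conj (mu g)
  hTI : ∀ y : C, mu y ≠ 1 → ∀ x : G, x⁻¹ * (y : G) * x ∈ C → x ∈ N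
  hne : mu ≠ 1
  hsq : mu * mu ≠ 1

namespace TI2

variable {G : Type u} [Group G] (L : TI2 G) [Fintype G]

open Classical in
theorem ext_conj (g : L.C) (h : L.mu g ≠ 1) (x : G) :
    extendByZero L.C (fun y => 1 - L.mu y) (x⁻¹ * (g : G) * x) =
      (if x ∈ L.C then (1 - L.mu g) else 0) + (if (L.s : G)⁻¹ * x ∈ L.C then (1 - conj (L.mu g)) else 0) := by
  by_cases hx : x ∈ L.N
  · rcases L.hN x hx with h1 | h1
    · have h2 : ¬ (L.s : G)⁻¹ * x ∈ L.C := fun h2 => L.hsC x ⟨h1, h2⟩
      have h3 : x⁻¹ * (g : G) * x ∈ L.C := L.C.mul_mem (L.C.mul_mem (L.C.inv_mem h1) g.2) h1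
      rw [if_pos h1, if_neg h2, extendByZero_of_mem _ _ h3, add_zero]
      have h4 : (⟨x⁻¹ * (g : G) * x, h3⟩ : L.C) = ⟨x, h1⟩⁻¹ * g * ⟨x, h1⟩ := rfl
      rw [h4, map_mul, map_mul, mul_comm, ← mul_assoc, ← map_mul, mul_inv_cancel, map_one, one_mul]
    · have h2 : ¬ x ∈ L.C := fun h2 => L.hsC x ⟨h2, h1⟩
      obtain ⟨h3, h4⟩ := L.hinv x h1 g
      rw [if_neg h2, if_pos h1, extendByZero_of_mem _ _ h3, zero_add, h4]
  · have h1 : ¬ x ∈ L.C := fun h => hx (L.hCN h)
    have h2 : ¬ (L.s : G)⁻¹ * x ∈ L.C := by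
      intro h
      apply hx
      have := L.N.mul_mem L.hs (L.hCN h)
      rwa [mul_inv_cancel_left] at this
    rw [if_neg h1, if_neg h2, add_zero]
    apply extendByZero_of_notMem
    intro h3
    exact hx (L.hTI g h x h3)

/-- The induced generalized character. -/
noncomputable def Theta : G → ℂ := indFun L.C (fun y => 1 - L.mu y)

theorem sum_indicator_mem (H : Subgroup G) [DecidablePred (· ∈ H)] (s : G) (c : ℂ) :
    ∑ x : G, (if s⁻¹ * x ∈ H then c else 0) = (Nat.card H : ℂ) * c := by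
  classical
  have h1 : ∑ x : G, (if s⁻¹ * x ∈ H then c else 0) = ∑ x : G, (if x ∈ H then c else 0) :=
    Fintype.sum_equiv (Equiv.mulLeft s⁻¹) _ _ fun x => rfl
  rw [h1, ← Finset.sum_filter, Finset.sum_const, nsmul_eq_mul]
  congr 2
  rw [Nat.card_eq_fintype_card, Fintype.card_subtype]

theorem Theta_of_ne (g : L.C) (h : L.mu g ≠ 1) :
    L.Theta (g : G) = 2 - L.mu g - conj (L.mu g) := by
  classical
  unfold Theta indFun
  simp_rw [L.ext_conj g h]
  rw [Finset.sum_add_distrib]
  have h1 := sum_indicator_mem L.C (1 : G) (1 - L.mu g)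
  simp only [inv_one, one_mul] at h1
  rw [h1, sum_indicator_mem L.C (L.s : G)]
  have := card_ne_zero_complex L.C
  field_simp
  ring

theorem Theta_isClass : IsClassFunction G L.Theta := indFun_isClassFunction _ _

theorem Theta_isGen : IsGeneralizedCharacter G L.Theta := by
  apply Cfsg.Agent.Char.BI.isGeneralizedCharacter_indFun
  refine ⟨fun _ => 1, L.mu, isCharacter_one, isCharacter_of_hom L.mu, rfl⟩

theorem Theta_ne_zero {g : G} (h : L.Theta g ≠ 0) : ∃ x : G, ∃ hx : x⁻¹ * g * x ∈ L.C, L.mu ⟨_, hx⟩ ≠ 1 := by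
  by_contra hcon
  push Not at hcon
  apply h
  unfold Theta indFun
  rw [Finset.sum_eq_zero, mul_zero]
  intro x _
  by_cases hx : x⁻¹ * g * x ∈ L.C
  · rw [extendByZero_of_mem _ _ hx, hcon x hx, sub_self]
  · exact extendByZero_of_notMem _ _ hx

theorem Theta_one : L.Theta 1 = 0 := by
  unfold Theta
  rw [indFun_one_apply, map_one, sub_self, mul_zero]

theorem sum_mu [Fintype L.C] : ∑ y : L.C, L.mu y = 0 := sum_hom_units_eq_zero _ L.hne

theorem sum_mu_sq [Fintype L.C] : ∑ y : L.C, L.mu y * L.mu y = 0 :=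
  sum_hom_units_eq_zero _ L.hsq

theorem sum_conj_mu [Fintype L.C] : ∑ y : L.C, conj (L.mu y) = 0 := by
  rw [← map_sum, L.sum_mu, map_zero]

theorem inner_Theta_self : classInner L.Theta L.Theta = 3 := by
  classical
  have h0 : classInner L.Theta L.Theta = classInner (indFun L.C (fun y => 1 - L.mu y)) L.Theta := rfl
  rw [h0, frobenius_reciprocity L.C _ _ L.Theta_isClass]
  unfold classInner
  have h1 : ∀ y : L.C, (1 - L.mu y) * conj (L.Theta y) =
      3 - 3 * L.mu y - conj (L.mu y) + L.mu y * L.mu y := by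
    intro y
    by_cases hy : L.mu y = 1
    · rw [hy]; simp
    · rw [L.Theta_of_ne y hy]
      have := L.hmu y
      simp only [map_sub, Complex.conj_conj, map_ofNat]
      linear_combination this
  rw [Finset.sum_congr rfl (fun y _ => h1 y)]
  rw [Finset.sum_add_distrib, Finset.sum_sub_distrib, Finset.sum_sub_distrib, ← Finset.mul_sum,
    L.sum_mu, L.sum_conj_mu, L.sum_mu_sq, Finset.sum_const, Finset.card_univ, nsmul_eq_mul]
  have := card_ne_zero_complex L.C
  rw [Nat.card_eq_fintype_card] at this ⊢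
  field_simp
  ring

theorem inner_Theta_one : classInner L.Theta (fun _ => 1) = 1 := by
  classical
  unfold Theta
  rw [frobenius_reciprocity L.C _ _ (fun _ _ => rfl)]
  unfold classInner
  simp only [map_one, mul_one]
  rw [Finset.sum_sub_distrib, L.sum_mu, Finset.sum_const, Finset.card_univ, nsmul_eq_mul]
  have := card_ne_zero_complex L.C
  rw [Nat.card_eq_fintype_card] at this ⊢
  field_simp
  ring

/-- The exceptional pair of characters. -/
theorem exists_pair : ∃ χ₁ χ₂ : G → ℂ, IsIrrCharacter G χ₁ ∧ IsIrrCharacter G χ₂ ∧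
    χ₁ ≠ (fun _ => 1) ∧ χ₂ ≠ (fun _ => 1) ∧ χ₁ 1 = χ₂ 1 + 1 ∧
    L.Theta = fun g => 1 + χ₂ g - χ₁ g := by
  classical
  have hone : IsIrrCharacter G (fun _ => (1 : ℂ)) := Char.isIrrCharacter_one
  set o : G → ℂ := fun _ => 1 with ho
  have h11 : classInner o o = 1 := Cfsg.Agent.Coh.irr_inner_self hone
  have hT1 : classInner L.Theta o = 1 := L.inner_Theta_one
  have h1T : classInner o L.Theta = 1 := by
    rw [← CharBase.classInner_conj_symm, hT1, map_one]
  have hF : IsGeneralizedCharacter G (L.Theta - o) :=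
    Cfsg.Agent.Coh.isGen_sub L.Theta_isGen (Cfsg.Agent.Coh.isGen_of_isIrr hone)
  have hF2 : classInner (L.Theta - o) (L.Theta - o) = 2 := by
    rw [classInner_sub_left, classInner_sub_right, classInner_sub_right, L.inner_Theta_self, hT1,
      h1T, h11]
    norm_num
  have hFo : classInner (L.Theta - o) o = 0 := by
    rw [classInner_sub_left, hT1, h11, sub_self]
  have hF1 : (L.Theta - o) 1 = -1 := by
    rw [Pi.sub_apply, L.Theta_one, ho]; norm_num
  obtain ⟨α, β, hα, hβ, hαβ, hsum⟩ := Cfsg.Agent.Coh.sum_two_of_norm_two hF hF2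
  rw [hsum, classInner_add_left] at hFo
  have hβα : classInner β α = 0 := by
    rw [← CharBase.classInner_conj_symm, hαβ, map_zero]
  -- main case analysis
  have key : ∀ α β : G → ℂ, IsIrrCharacter G α → IsIrrCharacter G (-β) → classInner α β = 0 →
      L.Theta - o = α + β → classInner α o + classInner β o = 0 →
      ∃ χ₁ χ₂ : G → ℂ, IsIrrCharacter G χ₁ ∧ IsIrrCharacter G χ₂ ∧
      χ₁ ≠ (fun _ => 1) ∧ χ₂ ≠ (fun _ => 1) ∧ χ₁ 1 = χ₂ 1 + 1 ∧
      L.Theta = fun g => 1 + χ₂ g - χ₁ g := by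
    intro α β hα hβ hαβ hsum hin
    have hne : ∀ γ : G → ℂ, γ = o → classInner γ o = 1 := by rintro γ rfl; exact h11
    refine ⟨-β, α, hβ, hα, ?_, ?_, ?_, ?_⟩
    · intro h
      have h1 : β = -o := by
        have h' : -β = o := h
        rw [← h', neg_neg]
      have h2 : classInner β o = -1 := by rw [h1, classInner_neg_left, h11]
      rw [h2] at hin
      have h3 : classInner α o = 1 := by linear_combination hin
      rw [h1, classInner_neg_right, h3] at hαβ
      norm_num at hαβ
    · intro h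
      have h2 : classInner α o = 1 := hne α h
      rw [h2] at hin
      rw [h, ← CharBase.classInner_conj_symm] at hαβ
      have h3 : classInner β o = -1 := by linear_combination hin
      rw [h3] at hαβ
      norm_num at hαβ
    · have := congrFun hsum 1
      rw [hF1, Pi.add_apply] at this
      change -β 1 = α 1 + 1
      linear_combination this
    · funext g
      have := congrFun hsum g
      change L.Theta g - 1 = α g + β g at this
      change L.Theta g = 1 + α g - -β g
      linear_combination this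
  have h1sum : α 1 + β 1 = -1 := by rw [← hF1, hsum]; rfl
  rcases hα with hα | hα <;> rcases hβ with hβ | hβ
  · exfalso
    obtain ⟨k, hk, hk'⟩ := Cfsg.Agent.Coh.irr_degree hα
    obtain ⟨l, hl, hl'⟩ := Cfsg.Agent.Coh.irr_degree hβ
    rw [hk', hl'] at h1sum
    have : ((k + l + 1 : ℕ) : ℂ) = 0 := by push_cast; linear_combination h1sum
    rw [Nat.cast_eq_zero] at this
    omega
  · exact key α β hα hβ hαβ hsum hFo
  · exact key β α hβ hα hβα (by rw [hsum, add_comm]) (by rw [← hFo, add_comm])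
  · exfalso
    obtain ⟨k, hk, hk'⟩ := Cfsg.Agent.Coh.irr_degree hα
    obtain ⟨l, hl, hl'⟩ := Cfsg.Agent.Coh.irr_degree hβ
    have hk'' : α 1 = -(k : ℂ) := by rw [← hk']; simp
    have hl'' : β 1 = -(l : ℂ) := by rw [← hl']; simp
    rw [hk'', hl''] at h1sum
    have : ((k + l : ℕ) : ℂ) = ((1 : ℕ) : ℂ) := by push_cast; linear_combination -h1sum
    rw [Nat.cast_inj] at this
    omega

/-- The class function `c ↦ ∑ χ(z)² χ(c) / χ(1)`. -/
noncomputable def kap [Fintype (IrrCharacter G)] (z : G) : G → ℂ :=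
  ∑ χ : IrrCharacter G, (((χ : G → ℂ) z) ^ 2 / (χ : G → ℂ) 1) • (χ : G → ℂ)

theorem kap_isClass [Fintype (IrrCharacter G)] (z : G) : IsClassFunction G (kap z) := by
  unfold kap
  apply isClassFunction_sum
  intro χ _
  exact isClassFunction_smul _ (irr_isClassFunction χ)

/-- the number of pairs of conjugates of `z` with product `c⁻¹`. -/
theorem card_eq_kap [Fintype (IrrCharacter G)] (z c : G) :
    (Nat.card {p : G × G // IsConj z p.1 ∧ IsConj z p.2 ∧ p.1 * p.2 = c⁻¹} : ℂ) =
      (Nat.card {x : G // IsConj z x} : ℂ) * (Nat.card {x : G // IsConj z x} : ℂ) /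
        (Nat.card G : ℂ) * kap z c := by
  classical
  rw [Cfsg.Agent.H14.ClassMul.card_mul_eq z z c⁻¹]
  congr 1
  unfold kap
  rw [Finset.sum_apply]
  refine Finset.sum_congr rfl fun χ _ => ?_
  rw [Pi.smul_apply, smul_eq_mul, irr_inv, Complex.conj_conj]
  ring

theorem inner_kap [Fintype (IrrCharacter G)] (z : G) {χ : G → ℂ} (hχ : IsIrrCharacter G χ) :
    classInner χ (kap z) = conj ((χ z) ^ 2 / χ 1) := by
  classical
  have h : ∀ χ : IrrCharacter G, classInner (χ : G → ℂ) (kap z) = conj (((χ : G → ℂ) z) ^ 2 / (χ : G → ℂ) 1) := by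
    intro χ
    unfold kap
    rw [classInner_sum_right]
    rw [Finset.sum_eq_single χ]
    · rw [classInner_smul_right, classInner_irr_self, mul_one]
    · intro ψ _ hψ
      rw [classInner_smul_right, classInner_irr_of_ne hψ.symm, mul_zero]
    · intro h; exact absurd (Finset.mem_univ _) h
  exact h ⟨χ, hχ⟩

end TI2

end Cfsg.Agent.H14
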